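import Groth.Agent.Sga3.H774.OpenRep
import Groth.Agent.Sga3B.TorSep602
import Groth.Agent.Sga3B.TorSmooth893
import Groth.Agent.Sga3.H816.UnitLoc

/-!
# Flat charts on the functor of homomorphisms from a diagonalizable group

`isChart_conj`: `G` smooth and separated over an affine scheme `S`, with an affine open neighbourhood of the unit
section, `H = D_S(M)` smooth and geometrically irreducible, `D` smooth over `S` and `u : H ⊗ D ⟶ G` a family of
homomorphisms.  Then `G ⊗ D ⟶ Hom(H, G)`, `(g, d) ↦ int(g) ∘ u_d` is representable and smooth.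
-/

set_option autoImplicit false
universe u

open CategoryTheory CategoryTheory.Limits MonoidalCategory CartesianMonoidalCategory MonObj GrpObj AlgebraicGeometry
  Opposite

namespace Groth.Agent.Sga3.H774.ConjChart

open Groth.Agent.Sga3B.DSPts Groth.Agent.Sga3B.InfConj Groth.Agent.Sga3B.InfConjFam Groth.Agent.Sga3B.TorSmooth893
  Groth.Agent.Sga3B.RepDescent OpenRep

variable {S : Scheme.{u}}

section conj

variable {H G D : Over S} [GrpObj H] [GrpObj G] (u : H ⊗ D ⟶ G)

/-- The conjugates of a family. -/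
noncomputable def conj : H ⊗ (G ⊗ D) ⟶ G :=
  (snd H (G ⊗ D) ≫ fst G D) * ((H ◁ snd G D) ≫ u) * (snd H (G ⊗ D) ≫ fst G D)⁻¹

omit [GrpObj H] [GrpObj G] in
theorem wl {T₁ T₂ T₃ : Over S} (f : T₁ ⟶ T₂) (g : T₂ ⟶ T₃) (k : H ⊗ T₃ ⟶ G) :
    (H ◁ f) ≫ (H ◁ g) ≫ k = (H ◁ (f ≫ g)) ≫ k := by
  rw [MonoidalCategory.whiskerLeft_comp, Category.assoc]

omit [GrpObj H] in
theorem lift_conj {T : Over S} (h : T ⟶ H) (g : T ⟶ G) (d : T ⟶ D) :
    lift h (lift g d) ≫ conj u = g * (lift h d ≫ u) * g⁻¹ := by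
  simp only [conj, MonObj.comp_mul, comp_inv, lift_snd_assoc, lift_fst, lift_whiskerLeft_assoc, lift_snd]

theorem isHomFamily_conj' (hu : AutFam.IsHomFamily H G u) : AutFam.IsHomFamily H G (conj u) :=
  isHomFamily_conj _ (Groth.Agent.Sga3B.IsoFam.isHomFamily_pull hu (snd G D)) (fst G D)

omit [GrpObj H] in
theorem whiskerLeft_conj {T : Over S} (g : T ⟶ G) (d : T ⟶ D) :
    (H ◁ lift g d) ≫ conj u = (snd H T ≫ g) * ((H ◁ d) ≫ u) * (snd H T ≫ g)⁻¹ := by
  have h1 : H ◁ lift g d = lift (fst H T) (lift (snd H T ≫ g) (snd H T ≫ d)) := by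
    apply CartesianMonoidalCategory.hom_ext
    · rw [whiskerLeft_fst, lift_fst]
    · rw [whiskerLeft_snd, lift_snd, comp_lift]
  have h2 : H ◁ d = lift (fst H T) (snd H T ≫ d) := by
    apply CartesianMonoidalCategory.hom_ext
    · rw [whiskerLeft_fst, lift_fst]
    · rw [whiskerLeft_snd, lift_snd]
  rw [h1, lift_conj, h2]

omit [GrpObj H] in
/-- The chart contains the given family. -/
theorem lift_one_conj {T : Over S} (d : T ⟶ D) : (H ◁ lift 1 d) ≫ conj u = (H ◁ d) ≫ u := by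
  rw [whiskerLeft_conj, MonObj.comp_one, _root_.one_mul, inv_one, _root_.mul_one]

end conj

section chart

variable {M : Type} [AddCommGroup M] {G D : Over S} [GrpObj G] [Smooth G.hom] [IsSeparated G.hom] [Smooth D.hom]

/-- **Smooth charts.** -/
theorem exists_smooth_fibre (hH1 : Smooth (Red.DS S M).hom) (hH2 : GeometricallyIrreducible (Red.DS S M).hom)
    (hU : ∀ (C : Type u) [CommRing C] (x : Spec (CommRingCat.of C) ⟶ S), HasAffineUnitNhd (Red.bc x G))
    (u : Red.DS S M ⊗ D ⟶ G) (hu : AutFam.IsHomFamily (Red.DS S M) G u) (Y : Over S) (y : Red.DS S M ⊗ Y ⟶ G)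
    (hy : AutFam.IsHomFamily (Red.DS S M) G y) :
    ∃ (Z : Over S) (z : Z ⟶ (G ⊗ D) ⊗ Y), Mono z ∧ Smooth (z ≫ snd _ _).left ∧
      ∀ (R : Over S) (c : R ⟶ G ⊗ D) (d : R ⟶ Y), (∃ e : R ⟶ Z, e ≫ z = lift c d) ↔
        (Red.DS S M ◁ c) ≫ conj u = (Red.DS S M ◁ d) ≫ y := by
  obtain ⟨Z, z, hz, huniv, hlfp⟩ := Groth.Agent.Sga3B.TorSep602.exists_agree (Red.DS S M) G ((G ⊗ D) ⊗ Y)
    ((Red.DS S M ◁ fst (G ⊗ D) Y) ≫ conj u) ((Red.DS S M ◁ snd (G ⊗ D) Y) ≫ y)
  have hmono : Mono z := by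
    have : Mono z.left := inferInstance
    exact (Over.forget S).mono_of_mono_map this
  have key : ∀ (R : Over S) (c : R ⟶ G ⊗ D) (d : R ⟶ Y), (∃ e : R ⟶ Z, e ≫ z = lift c d) ↔
      (Red.DS S M ◁ c) ≫ conj u = (Red.DS S M ◁ d) ≫ y := by
    intro R c d
    rw [huniv, ← Category.assoc, ← Category.assoc, ← MonoidalCategory.whiskerLeft_comp,
      ← MonoidalCategory.whiskerLeft_comp, lift_fst, lift_snd]
  refine ⟨Z, z, hmono, ?_, key⟩
  have hlfp' : LocallyOfFinitePresentation z.left := hlfp inferInstance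
  rw [S1488.result]
  have h1 : LocallyOfFinitePresentation (snd (G ⊗ D) Y).left := by
    have : LocallyOfFinitePresentation (G ⊗ D).hom :=
      inferInstanceAs (LocallyOfFinitePresentation (pullback.fst G.hom D.hom ≫ G.hom))
    exact inferInstanceAs (LocallyOfFinitePresentation (pullback.snd (G ⊗ D).hom Y.hom))
  refine ⟨by rw [Over.comp_left]; infer_instance, ?_⟩
  intro C _ I hI α β hαβ
  rw [pow_two] at hI
  let x : Spec (CommRingCat.of C) ⟶ S := β ≫ Y.hom
  let β' : Over.mk x ⟶ Y := Over.homMk β rfl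
  let α' : Over.mk (Spec.map (CommRingCat.ofHom (Ideal.Quotient.mk I)) ≫ x) ⟶ Z := Over.homMk α (by
    change α ≫ Z.hom = Spec.map (CommRingCat.ofHom (Ideal.Quotient.mk I)) ≫ β ≫ Y.hom
    rw [← Category.assoc, hαβ, Category.assoc, Over.w])
  have hαβ' : redMap x I ≫ β' = α' ≫ z ≫ snd _ _ := Over.OverMorphism.ext hαβ
  obtain ⟨g, hg⟩ := exists_lift_of_smooth G C I hI x (α' ≫ z ≫ fst _ _ ≫ fst _ _)
  obtain ⟨d, hd⟩ := exists_lift_of_smooth D C I hI x (α' ≫ z ≫ fst _ _ ≫ snd _ _)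
  have hgd : redMap x I ≫ lift g d = α' ≫ z ≫ fst _ _ := by
    apply CartesianMonoidalCategory.hom_ext
    · rw [Category.assoc, lift_fst, hg]
      simp only [Category.assoc]
    · rw [Category.assoc, lift_snd, hd]
      simp only [Category.assoc]
  let A := (Red.DS S M ◁ lift g d) ≫ conj u
  let B := (Red.DS S M ◁ β') ≫ y
  have hA : AutFam.IsHomFamily (Red.DS S M) G A :=
    Groth.Agent.Sga3B.IsoFam.isHomFamily_pull (isHomFamily_conj' u hu) _
  have hB : AutFam.IsHomFamily (Red.DS S M) G B := Groth.Agent.Sga3B.IsoFam.isHomFamily_pull hy _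
  have hAB : (Red.DS S M ◁ redMap x I) ≫ B = (Red.DS S M ◁ redMap x I) ≫ A := by
    have h2 := (key Z (z ≫ fst _ _) (z ≫ snd _ _)).1 ⟨𝟙 _, by
      apply CartesianMonoidalCategory.hom_ext <;> simp⟩
    refine (wl (redMap x I) β' y).trans ?_
    refine Eq.trans ?_ (wl (redMap x I) (lift g d) (conj u)).symm
    rw [hgd, hαβ', ← wl α' (z ≫ snd _ _) y, ← wl α' (z ≫ fst _ _) (conj u), h2]
  obtain ⟨w, hw1, hw2⟩ := infConj_family x G I hI (hU C x) B A hB hA hAB
  obtain ⟨γ, hγ⟩ := (key (Over.mk x) (lift (w * g) d) β').2 (by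
    have h3 := hw2 _ (fst (Red.DS S M) (Over.mk x)) (snd (Red.DS S M) (Over.mk x))
    rw [lift_fst_snd, Category.id_comp, Category.id_comp] at h3
    change _ = B
    rw [h3]
    simp only [A]
    rw [whiskerLeft_conj, whiskerLeft_conj, MonObj.comp_mul]
    group)
  have h4 : redMap x I ≫ γ = α' := by
    rw [← cancel_mono z, Category.assoc, hγ]
    apply CartesianMonoidalCategory.hom_ext
    · rw [Category.assoc, lift_fst, Category.assoc, ← hgd]
      apply CartesianMonoidalCategory.hom_ext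
      · rw [Category.assoc, lift_fst, Category.assoc, lift_fst, MonObj.comp_mul, hw1, _root_.one_mul]
      · rw [Category.assoc, lift_snd, Category.assoc, lift_snd]
    · rw [Category.assoc, lift_snd, hαβ', Category.assoc]
  refine ⟨γ.left, congrArg CommaMorphism.left h4, ?_⟩
  have h5 : γ ≫ z ≫ snd _ _ = β' := by rw [← Category.assoc, hγ, lift_snd]
  exact congrArg CommaMorphism.left h5

/-- **Charts on the functor of homomorphisms.** -/
theorem isChart_conj (hH1 : Smooth (Red.DS S M).hom) (hH2 : GeometricallyIrreducible (Red.DS S M).hom)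
    (hU : ∀ (C : Type u) [CommRing C] (x : Spec (CommRingCat.of C) ⟶ S), HasAffineUnitNhd (Red.bc x G))
    (u : Red.DS S M ⊗ D ⟶ G) (hu : AutFam.IsHomFamily (Red.DS S M) G u) :
    IsChart (homF (Red.DS S M) G) (G ⊗ D) (⟨conj u, isHomFamily_conj' u hu⟩ :
      {y : (famF (Red.DS S M) G).obj (op (G ⊗ D)) // homP (Red.DS S M) G _ y}) := by
  intro Y y
  obtain ⟨Z, z, hmono, hsm, key⟩ := exists_smooth_fibre hH1 hH2 hU u hu Y y.1 y.2
  refine ⟨Z, z ≫ fst _ _, z ≫ snd _ _, ?_, inferInstance, inferInstance, fun R c d hcd => ?_⟩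
  · apply Subtype.ext
    exact (key Z (z ≫ fst _ _) (z ≫ snd _ _)).1 ⟨𝟙 _, by
      apply CartesianMonoidalCategory.hom_ext <;> simp⟩
  · obtain ⟨e, he⟩ := (key R c d).2 (congrArg Subtype.val hcd)
    refine ⟨e, ⟨by rw [← Category.assoc, he, lift_fst], by rw [← Category.assoc, he, lift_snd]⟩, ?_⟩
    rintro e' ⟨h1, h2⟩
    rw [← cancel_mono z, he]
    apply CartesianMonoidalCategory.hom_ext
    · rw [Category.assoc, h1, lift_fst]
    · rw [Category.assoc, h2, lift_snd]

end chart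

/-- Charts can be restricted along flat morphisms locally of finite presentation. -/
theorem IsChart.restrict {F : (Over S)ᵒᵖ ⥤ Type u} {X X' : Over S} {x : F.obj (op X)} (hX : IsChart F X x) (j : X' ⟶ X)
    (hj1 : Flat j.left) (hj2 : LocallyOfFinitePresentation j.left) : IsChart F X' (F.map j.op x) := by
  intro Y y
  obtain ⟨Z, a, b, hab, hb1, hb2, huniv⟩ := hX Y y
  obtain ⟨P, p, q, hpq, hP⟩ := exists_pullback j a
  have h1 : Flat q.left := MorphismProperty.of_isPullback (P := @Flat) hP hj1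
  have h2 : LocallyOfFinitePresentation q.left :=
    MorphismProperty.of_isPullback (P := @LocallyOfFinitePresentation) hP hj2
  refine ⟨P, p, q ≫ b, ?_, ?_, ?_, fun R c d hcd => ?_⟩
  · rw [← Functor.map_comp_apply, ← op_comp, hpq, op_comp, Functor.map_comp_apply, hab, op_comp,
      Functor.map_comp_apply]
  · rw [Over.comp_left]; infer_instance
  · rw [Over.comp_left]; infer_instance
  · rw [← Functor.map_comp_apply, ← op_comp] at hcd
    obtain ⟨e, ⟨he1, he2⟩, he3⟩ := huniv R (c ≫ j) d hcd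
    have h3 : c.left ≫ j.left = e.left ≫ a.left := by
      rw [← Over.comp_left, ← Over.comp_left, he1]
    let m : R ⟶ P := Over.homMk (hP.lift c.left e.left h3) (by
      rw [← Over.w p, hP.lift_fst_assoc, Over.w])
    have hm1 : m ≫ p = c := Over.OverMorphism.ext (hP.lift_fst _ _ _)
    have hm2 : m ≫ q = e := Over.OverMorphism.ext (hP.lift_snd _ _ _)
    refine ⟨m, ⟨hm1, by rw [← Category.assoc, hm2, he2]⟩, ?_⟩
    rintro m' ⟨h4, h5⟩
    have h6 : m' ≫ q = e := by
      apply he3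
      refine ⟨?_, ?_⟩
      · rw [Category.assoc, ← hpq, ← Category.assoc, h4]
      · rw [Category.assoc, h5]
    apply Over.OverMorphism.ext
    apply hP.hom_ext
    · rw [← Over.comp_left, ← Over.comp_left, h4, hm1]
    · rw [← Over.comp_left, ← Over.comp_left, h6, hm2]

end Groth.Agent.Sga3.H774.ConjChart
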