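import Groth.Agent.Sga3.H774.OpenRep

/-!
# A small set of charts

Schemes affine and of finite type over `Spec B` form an essentially small category.
-/

set_option autoImplicit false
universe u

open CategoryTheory CategoryTheory.Limits AlgebraicGeometry Opposite

namespace Groth.Agent.Sga3.H774.SmallCharts

variable {B : CommRingCat.{u}}

/-- The closed subscheme of affine space defined by an ideal. -/
noncomputable def obj (n : ℕ) (I : Ideal (MvPolynomial (Fin n) B)) : Over (Spec B) :=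
  Over.mk (Spec.map (CommRingCat.ofHom (algebraMap B (MvPolynomial (Fin n) B ⧸ I))))

instance isAffine_obj (n : ℕ) (I : Ideal (MvPolynomial (Fin n) B)) : IsAffine (obj n I).left :=
  inferInstanceAs (IsAffine (Spec (CommRingCat.of (MvPolynomial (Fin n) B ⧸ I))))

theorem locallyOfFiniteType_obj (n : ℕ) (I : Ideal (MvPolynomial (Fin n) B)) : LocallyOfFiniteType (obj n I).hom := by
  change LocallyOfFiniteType (Spec.map (CommRingCat.ofHom (algebraMap B (MvPolynomial (Fin n) B ⧸ I))))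
  rw [HasRingHomProperty.Spec_iff (P := @LocallyOfFiniteType)]
  have : Algebra.FiniteType B (MvPolynomial (Fin n) B ⧸ I) := inferInstance
  exact (RingHom.finiteType_algebraMap).2 this

theorem exists_iso (X : Over (Spec B)) [IsAffine X.left] [LocallyOfFiniteType X.hom] :
    ∃ (n : ℕ) (I : Ideal (MvPolynomial (Fin n) B)), Nonempty (X ≅ obj n I) := by
  let A : CommRingCat.{u} := Γ(X.left, ⊤)
  obtain ⟨φ, hφ⟩ : ∃ φ : B ⟶ A, Spec.map φ = X.left.isoSpec.inv ≫ X.hom :=
    ⟨Spec.preimage (X.left.isoSpec.inv ≫ X.hom), Spec.map_preimage _⟩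
  have h1 : φ.hom.FiniteType := by
    have h2 : LocallyOfFiniteType (Spec.map φ) := by rw [hφ]; infer_instance
    exact (HasRingHomProperty.Spec_iff (P := @LocallyOfFiniteType)).1 h2
  let _ : Algebra B A := φ.hom.toAlgebra
  have h3 : Algebra.FiniteType B A := h1
  obtain ⟨n, f, hf⟩ := Algebra.FiniteType.iff_quotient_mvPolynomial''.1 h3
  let e : (MvPolynomial (Fin n) B ⧸ RingHom.ker f) ≃ₐ[B] A := Ideal.quotientKerAlgEquivOfSurjective hf
  let e' : CommRingCat.of (MvPolynomial (Fin n) B ⧸ RingHom.ker f) ≅ A := e.toRingEquiv.toCommRingCatIso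
  refine ⟨n, RingHom.ker f, ⟨Over.isoMk (X.left.isoSpec ≪≫ Scheme.Spec.mapIso e'.op) ?_⟩⟩
  change (X.left.isoSpec.hom ≫ Spec.map e'.hom) ≫
    Spec.map (CommRingCat.ofHom (algebraMap B (MvPolynomial (Fin n) B ⧸ RingHom.ker f))) = X.hom
  rw [Category.assoc, ← Spec.map_comp]
  have h4 : CommRingCat.ofHom (algebraMap B (MvPolynomial (Fin n) B ⧸ RingHom.ker f)) ≫ e'.hom = φ := by
    ext b
    exact e.commutes b
  rw [h4, hφ, Iso.hom_inv_id_assoc]

/-- A small set of charts. -/
theorem exists_small (F : (Over (Spec B))ᵒᵖ ⥤ Type u) (P : ∀ X : Over (Spec B), F.obj (op X) → Prop)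
    (hP : ∀ (X X' : Over (Spec B)) (e : X' ≅ X) (x : F.obj (op X)), P X x → P X' (F.map e.hom.op x))
    (h : ∀ (K : Type u) [Field K] (s : Spec (CommRingCat.of K) ⟶ Spec B) (y : F.obj (op (Over.mk s))),
      ∃ (X : Over (Spec B)) (x : F.obj (op X)) (k : Over.mk s ⟶ X), IsAffine X.left ∧ LocallyOfFiniteType X.hom ∧
        P X x ∧ F.map k.op x = y) :
    ∃ (ι : Type u) (X : ι → Over (Spec B)) (x : ∀ i, F.obj (op (X i))), (∀ i, IsAffine (X i).left) ∧
      (∀ i, LocallyOfFiniteType (X i).hom) ∧ (∀ i, P (X i) (x i)) ∧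
      ∀ (K : Type u) [Field K] (s : Spec (CommRingCat.of K) ⟶ Spec B) (y : F.obj (op (Over.mk s))),
        ∃ (i : ι) (k : Over.mk s ⟶ X i), F.map k.op (x i) = y := by
  let ι : Type u := Σ (n : ℕ) (I : Ideal (MvPolynomial (Fin n) B)), {x : F.obj (op (obj n I)) // P _ x}
  refine ⟨ι, fun i => obj i.1 i.2.1, fun i => i.2.2.1, fun i => inferInstance,
    fun i => locallyOfFiniteType_obj _ _, fun i => i.2.2.2, fun K _ s y => ?_⟩
  obtain ⟨X, x, k, h1, h2, h3, h4⟩ := h K s y
  obtain ⟨n, I, ⟨e⟩⟩ := exists_iso X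
  refine ⟨⟨n, I, ⟨F.map e.inv.op x, hP X _ e.symm x h3⟩⟩, k ≫ e.hom, ?_⟩
  dsimp only
  rw [← Functor.map_comp_apply, ← op_comp, Category.assoc, e.hom_inv_id, Category.comp_id, h4]

end Groth.Agent.Sga3.H774.SmallCharts
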