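import Groth.Agent.Sga3.H774.Jets
import Groth.Agent.Sga3.H774.ConjChart
import Groth.Agent.Sga3.H774.SmallCharts
import Groth.Agent.GrpQ.H773.Main
import Groth.Agent.Sga3B.Trans894
import Groth.Agent.Sga3B.RepDescent8

/-!
# Representability of `Hom(T, G)`, `T` a split torus, from the local lifting property

`exists_representsHom`: let `B` be a noetherian ring, `G` a smooth separated group scheme over `Spec B` whose unit section
has an affine open neighbourhood.  Suppose that every family of homomorphisms `D(ℤ^r) ⟶ G` over a field-valued point of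
`Spec B` is induced by a family over some smooth `Spec D ⟶ Spec B`.  Then `Hom(D(ℤ^r), G)` is representable by a smooth
separated scheme whose quasi-compact opens are quasi-affine.
-/

set_option autoImplicit false
universe u

open CategoryTheory CategoryTheory.Limits MonoidalCategory CartesianMonoidalCategory MonObj GrpObj AlgebraicGeometry
  Opposite

namespace Groth.Agent.Sga3.H774.HomRep

open Groth.Agent.Sga3B Groth.Agent.Sga3B.InfConjFam Groth.Agent.Sga3B.RepDescent OpenRep OpenRepProps Coords ConjChart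
  FppfSheaf

variable {B : CommRingCat.{u}} (r : ℕ)

/-- Existence of affine charts through a given family over a field. -/
theorem exists_chart (G : Over (Spec B)) [GrpObj G] [Smooth G.hom] [IsSeparated G.hom] (hU : HasAffineUnitNhd G)
    {D : Over (Spec B)} [Smooth D.hom] (u : Red.DS (Spec B) (Fin r → ℤ) ⊗ D ⟶ G)
    (hu : AutFam.IsHomFamily (Red.DS (Spec B) (Fin r → ℤ)) G u) {K : Type u} [Field K]
    (s : Spec (CommRingCat.of K) ⟶ Spec B) (k : Over.mk s ⟶ D) :
    ∃ (X : Over (Spec B)) (x : (homF (Red.DS (Spec B) (Fin r → ℤ)) G).obj (op X)) (l : Over.mk s ⟶ X),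
      IsAffine X.left ∧ LocallyOfFiniteType X.hom ∧
      (IsChart (homF (Red.DS (Spec B) (Fin r → ℤ)) G) X x ∧ Smooth X.hom) ∧
      ((homF (Red.DS (Spec B) (Fin r → ℤ)) G).map l.op x).1 = (Red.DS (Spec B) (Fin r → ℤ) ◁ k) ≫ u := by
  have hT := Trans894.isTorus_DS (Spec B) (Fin r → ℤ)
  have hH1 := TorusAlgClosed.smooth_of_isTorus hT
  have hH2 := TorusIrr.geometricallyIrreducible_of_isTorus hT
  have hU' : ∀ (C : Type u) [CommRing C] (x : Spec (CommRingCat.of C) ⟶ Spec B), HasAffineUnitNhd (Red.bc x G) :=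
    fun C _ x => Groth.Agent.Sga3.H816.UnitLoc.HasAffineUnitNhd.bc x G hU
  have hc := isChart_conj hH1 hH2 hU' u hu
  let x₀ : (homF (Red.DS (Spec B) (Fin r → ℤ)) G).obj (op (G ⊗ D)) := ⟨conj u, isHomFamily_conj' u hu⟩
  let l₀ : Over.mk s ⟶ G ⊗ D := lift 1 k
  let p₀ : Spec (CommRingCat.of K) := IsLocalRing.closedPoint K
  obtain ⟨V, hV, hpV, -⟩ := exists_isAffineOpen_mem_and_subset (x := l₀.left p₀) (U := ⊤) trivial
  let X : Over (Spec B) := Over.mk (V.ι ≫ (G ⊗ D).hom)
  let j : X ⟶ G ⊗ D := Over.homMk V.ι rfl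
  have hrange : Set.range l₀.left ⊆ Set.range V.ι := by
    rintro _ ⟨q, rfl⟩
    have hq : q = p₀ := Subsingleton.elim (α := PrimeSpectrum K) q p₀
    rw [hq, Scheme.Opens.range_ι]
    exact hpV
  let m : Spec (CommRingCat.of K) ⟶ V := IsOpenImmersion.lift V.ι l₀.left hrange
  have hm : m ≫ V.ι = l₀.left := IsOpenImmersion.lift_fac _ _ _
  let l : Over.mk s ⟶ X := Over.homMk m (by
    change m ≫ V.ι ≫ (G ⊗ D).hom = s
    rw [reassoc_of% hm]
    exact Over.w l₀)
  have hl : l ≫ j = l₀ := Over.OverMorphism.ext hm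
  have hj : IsOpenImmersion j.left := inferInstanceAs (IsOpenImmersion V.ι)
  have hsm : Smooth (G ⊗ D).hom := inferInstanceAs (Smooth (pullback.fst G.hom D.hom ≫ G.hom))
  refine ⟨X, (homF (Red.DS (Spec B) (Fin r → ℤ)) G).map j.op x₀, l, hV, ?_, ⟨?_, ?_⟩, ?_⟩
  · exact inferInstanceAs (LocallyOfFiniteType (V.ι ≫ (G ⊗ D).hom))
  · exact IsChart.restrict hc j inferInstance inferInstance
  · exact inferInstanceAs (Smooth (V.ι ≫ (G ⊗ D).hom))
  · rw [← Functor.map_comp_apply, ← op_comp, hl]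
    exact lift_one_conj u k

/-- **Representability of `Hom(D(ℤ^r), G)` from the local lifting property.** -/
theorem exists_representsHom [IsNoetherianRing B] (G : Over (Spec B)) [GrpObj G] [Smooth G.hom] [IsSeparated G.hom]
    (hU : HasAffineUnitNhd G)
    (hlift : ∀ (K : Type u) [Field K] (x : Spec (CommRingCat.of K) ⟶ Spec B)
      (y : Red.DS (Spec B) (Fin r → ℤ) ⊗ Over.mk x ⟶ G), AutFam.IsHomFamily (Red.DS (Spec B) (Fin r → ℤ)) G y →
      ∃ (D : Type u) (_ : CommRing D) (d : Spec (CommRingCat.of D) ⟶ Spec B)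
        (u : Red.DS (Spec B) (Fin r → ℤ) ⊗ Over.mk d ⟶ G) (k : Over.mk x ⟶ Over.mk d), Smooth d ∧
        AutFam.IsHomFamily (Red.DS (Spec B) (Fin r → ℤ)) G u ∧ (Red.DS (Spec B) (Fin r → ℤ) ◁ k) ≫ u = y) :
    ∃ (A : Over (Spec B)) (υ : Red.DS (Spec B) (Fin r → ℤ) ⊗ A ⟶ G),
      AutFam.RepresentsHom (Red.DS (Spec B) (Fin r → ℤ)) G A υ ∧ Smooth A.hom ∧ IsSeparated A.hom ∧
      ∀ U : A.left.Opens, IsCompact (U : Set A.left) →
        ∃ (P : Scheme.{u}) (k : (U : Scheme.{u}) ⟶ P), IsAffine P ∧ IsOpenImmersion k := by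
  let F := homF (Red.DS (Spec B) (Fin r → ℤ)) G
  have hF : IsEtSheaf F := isEtSheaf_homF _ _
  have hF' : IsFppfSheaf F := isFppfSheaf_homF _ _
  obtain ⟨κ, ⟨𝔞⟩⟩ := Jets.exists_affCoord r G hU
  let 𝔠 : Coord F κ := 𝔞.coord hF
  obtain ⟨I₀, X, x, hX1, hX2, hX3, hX4⟩ := SmallCharts.exists_small F (fun X x => IsChart F X x ∧ Smooth X.hom)
    (fun X X' e x h => by
      have h1 : IsIso e.hom.left := inferInstanceAs (IsIso ((Over.forget _).map e.hom))
      refine ⟨IsChart.restrict h.1 e.hom inferInstance inferInstance, ?_⟩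
      have := h.2
      rw [← Over.w e.hom]
      infer_instance) (fun K _ s y => by
      obtain ⟨D, _, d, u, k, hd, hu, hk⟩ := hlift K s y.1 y.2
      have : Smooth (Over.mk d).hom := hd
      obtain ⟨X, x, l, h1, h2, h3, h4⟩ := exists_chart r G hU (D := Over.mk d) u hu s k
      exact ⟨X, x, l, h1, h2, h3, Subtype.ext (h4.trans hk)⟩)
  have hlfp : ∀ i, LocallyOfFinitePresentation (X i).hom := fun i => by
    have := (hX3 i).2
    infer_instance
  obtain ⟨A, ⟨ρ⟩⟩ := exists_representableBy (fun f _ hf => Groth.Agent.GrpQ.H773.Main.hasFact f) hF hF' 𝔠 X x hlfp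
    (fun i => isNoetherianRing_prod (X i) (X i)) (fun i => (hX3 i).1) hX4
  obtain ⟨υ, hυ⟩ := Groth.Agent.Sga3B.RepDescent.exists_representsHom ρ
  have hsm : Smooth A.hom := smooth_of_charts X x (fun i => (hX3 i).1) (fun i => (hX3 i).2) hX4 ρ
  exact ⟨A, υ, hυ, hsm, TorSep602.isSeparated_of_isTorus (Trans894.isTorus_DS (Spec B) (Fin r → ℤ)) hυ,
    fun U hU => exists_isOpenImmersion_of_isCompact 𝔠 hF ρ U hU⟩

end Groth.Agent.Sga3.H774.HomRep
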