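import Groth.Agent.Sga3.H774.OpenRepProps

/-!
# Coordinates on a presheaf from coordinates on its sections over affine schemes

`AffCoord F κ`: a natural injection of `F (Spec C)` into `κ → C`; `AffCoord.coord`: the resulting `Coord F κ` for an
étale (in fact Zariski) sheaf `F`.
-/

set_option autoImplicit false
universe u

open CategoryTheory CategoryTheory.Limits AlgebraicGeometry Opposite TopologicalSpace

namespace Groth.Agent.Sga3.H774.Coords

open Groth.Agent.Sga3B.RepDescent Groth.Agent.Sga3.H774.OpenRep Groth.Agent.Sga3.H774.OpenRepProps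

theorem appLE_of_eq_id {X : Scheme.{u}} (f : X ⟶ X) (hf : f = 𝟙 X) {U V : X.Opens} (h : V ≤ f ⁻¹ᵁ U) :
    f.appLE U V h = X.presheaf.map (homOfLE (by subst hf; exact h)).op := by
  subst hf
  simp only [Scheme.Hom.appLE, Scheme.Hom.id_app]
  exact Category.id_comp _

theorem exists_affine_le {X : Scheme.{u}} {W : X.Opens} {x : X} (hx : x ∈ W) :
    ∃ V : X.affineOpens, x ∈ V.1 ∧ V.1 ≤ W := by
  obtain ⟨V, hV, hxV, hVW⟩ := exists_isAffineOpen_mem_and_subset (x := x) (U := W) hx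
  exact ⟨⟨V, hV⟩, hxV, hVW⟩

/-- Two sections are equal if they agree on enough affine opens. -/
theorem section_ext {X : Scheme.{u}} {W : X.Opens} (s t : Γ(X, W)) (P : X.affineOpens → Prop)
    (hP : ∀ x ∈ W, ∃ V : X.affineOpens, x ∈ V.1 ∧ V.1 ≤ W ∧ P V)
    (h : ∀ (V : X.affineOpens) (hV : V.1 ≤ W), P V →
      X.presheaf.map (homOfLE hV).op s = X.presheaf.map (homOfLE hV).op t) : s = t := by
  refine X.sheaf.eq_of_locally_eq' (fun V : {V : X.affineOpens // V.1 ≤ W ∧ P V} => V.1.1) W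
    (fun V => homOfLE V.2.1) (fun x hx => ?_) s t (fun V => h V.1 V.2.1 V.2.2)
  obtain ⟨V, hxV, hVW, hPV⟩ := hP x hx
  exact Opens.mem_iSup.2 ⟨⟨V, hVW, hPV⟩, hxV⟩

/-- Compatible families of functions on the affine opens glue. -/
theorem exists_glue {X : Scheme.{u}} (s : ∀ V : X.affineOpens, Γ(X, V))
    (hs : ∀ (V V' : X.affineOpens) (h : V'.1 ≤ V.1), X.presheaf.map (homOfLE h).op (s V) = s V') :
    ∃! t : Γ(X, ⊤), ∀ V : X.affineOpens, X.presheaf.map (homOfLE (le_top : V.1 ≤ ⊤)).op t = s V := by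
  have compat : ∀ V V' : X.affineOpens, X.presheaf.map (homOfLE (inf_le_left : V.1 ⊓ V'.1 ≤ V.1)).op (s V) =
      X.presheaf.map (homOfLE (inf_le_right : V.1 ⊓ V'.1 ≤ V'.1)).op (s V') := by
    intro V V'
    refine section_ext _ _ (fun _ => True) (fun x hx => ?_) (fun V'' hV'' _ => ?_)
    · obtain ⟨V₀, h1, h2⟩ := exists_affine_le hx
      exact ⟨V₀, h1, h2, trivial⟩
    · rw [← CommRingCat.comp_apply, ← CommRingCat.comp_apply, ← Functor.map_comp, ← Functor.map_comp]
      exact (hs V V'' (hV''.trans inf_le_left)).trans (hs V' V'' (hV''.trans inf_le_right)).symm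
  refine X.sheaf.existsUnique_gluing' (fun V : X.affineOpens => V.1) ⊤ (fun V => homOfLE le_top) (fun x _ => ?_) s ?_
  · obtain ⟨V, hxV, -⟩ := exists_affine_le (x := x) (W := ⊤) trivial
    exact Opens.mem_iSup.2 ⟨V, hxV⟩
  · intro V V'
    exact compat V V'

variable {S : Scheme.{u}}

/-- A natural injection of the sections over affine schemes into families of functions. -/
structure AffCoord (F : (Over S)ᵒᵖ ⥤ Type u) (κ : Type u) where
  /-- the coordinates -/
  c : ∀ (C : CommRingCat.{u}) (x : Spec C ⟶ S), F.obj (op (Over.mk x)) → κ → C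
  nat : ∀ {C C' : CommRingCat.{u}} (g : C ⟶ C') (x : Spec C ⟶ S) (x' : Spec C' ⟶ S) (h : Spec.map g ≫ x = x')
    (y : F.obj (op (Over.mk x))) (k : κ),
    c C' x' (F.map (Over.homMk (Spec.map g) h : Over.mk x' ⟶ Over.mk x).op y) k = g (c C x y k)
  inj : ∀ (C : CommRingCat.{u}) (x : Spec C ⟶ S) (y y' : F.obj (op (Over.mk x))),
    (∀ k, c C x y k = c C x y' k) → y = y'

variable {F : (Over S)ᵒᵖ ⥤ Type u} {κ : Type u} (𝔞 : AffCoord F κ)

/-- the inclusion of an affine open, as a morphism over `S` -/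
noncomputable def inc (T : Over S) (V : T.left.affineOpens) : Over.mk (V.2.fromSpec ≫ T.hom) ⟶ T :=
  Over.homMk V.2.fromSpec rfl

namespace AffCoord

/-- the coordinates on an affine open -/
noncomputable def loc (T : Over S) (y : F.obj (op T)) (k : κ) (V : T.left.affineOpens) : Γ(T.left, V) :=
  𝔞.c Γ(T.left, V) (V.2.fromSpec ≫ T.hom) (F.map (inc T V).op y) k

theorem loc_appLE {T T' : Over S} (f : T' ⟶ T) (y : F.obj (op T)) (k : κ) (V : T.left.affineOpens)
    (V' : T'.left.affineOpens) (h : V'.1 ≤ f.left ⁻¹ᵁ V.1) :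
    𝔞.loc T' (F.map f.op y) k V' = f.left.appLE V.1 V'.1 h (𝔞.loc T y k V) := by
  have h1 : Spec.map (f.left.appLE V.1 V'.1 h) ≫ V.2.fromSpec ≫ T.hom = V'.2.fromSpec ≫ T'.hom := by
    rw [← Category.assoc, V.2.SpecMap_appLE_fromSpec f.left V'.2 h, Category.assoc, Over.w]
  rw [loc, loc, ← 𝔞.nat (f.left.appLE V.1 V'.1 h) _ _ h1]
  congr 1
  rw [← Functor.map_comp_apply, ← Functor.map_comp_apply, ← op_comp, ← op_comp]
  congr 3
  refine congrArg Quiver.Hom.op (Over.OverMorphism.ext ?_)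
  change V'.2.fromSpec ≫ f.left = Spec.map (f.left.appLE V.1 V'.1 h) ≫ V.2.fromSpec
  rw [V.2.SpecMap_appLE_fromSpec f.left V'.2 h]

theorem loc_res (T : Over S) (y : F.obj (op T)) (k : κ) (V V' : T.left.affineOpens) (h : V'.1 ≤ V.1) :
    T.left.presheaf.map (homOfLE h).op (𝔞.loc T y k V) = 𝔞.loc T y k V' := by
  have h1 := 𝔞.loc_appLE (𝟙 T) y k V V' (by
    rw [Over.id_left]
    exact h)
  rw [op_id, Functor.map_id_apply] at h1
  rw [h1, appLE_of_eq_id _ (Over.id_left T)]

/-- the coordinates -/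
noncomputable def glob (T : Over S) (y : F.obj (op T)) (k : κ) : Γ(T.left, ⊤) :=
  (exists_glue (𝔞.loc T y k) (𝔞.loc_res T y k)).choose

theorem glob_res (T : Over S) (y : F.obj (op T)) (k : κ) (V : T.left.affineOpens) :
    T.left.presheaf.map (homOfLE (le_top : V.1 ≤ ⊤)).op (𝔞.glob T y k) = 𝔞.loc T y k V :=
  (exists_glue (𝔞.loc T y k) (𝔞.loc_res T y k)).choose_spec.1 V

/-- **Coordinates on all sections.** -/
noncomputable def coord (hF : IsEtSheaf F) : Coord F κ where
  c := 𝔞.glob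
  nat {T T'} f y k := by
    refine section_ext _ _ (fun V' => ∃ V : T.left.affineOpens, V'.1 ≤ f.left ⁻¹ᵁ V.1) (fun x _ => ?_) ?_
    · obtain ⟨V, hV, -⟩ := exists_affine_le (x := f.left x) (W := ⊤) trivial
      obtain ⟨V', hV', hV''⟩ := exists_affine_le (x := x) (W := f.left ⁻¹ᵁ V.1) hV
      exact ⟨V', hV', le_top, V, hV''⟩
    · rintro V' - ⟨V, hV⟩
      refine (𝔞.glob_res T' (F.map f.op y) k V').trans ?_
      rw [𝔞.loc_appLE f y k V V' hV, ← 𝔞.glob_res T y k V]
      rw [← CommRingCat.comp_apply, ← CommRingCat.comp_apply]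
      congr 2
      rw [Scheme.Hom.map_appLE]
      simp [Scheme.Hom.appLE]
  inj T y y' h := by
    refine ext_of_isEtSheaf hF (ι := T.left.affineOpens) _ (inc T) (fun V => ?_) (fun t => ?_) y y' (fun V => ?_)
    · change Etale V.2.fromSpec
      infer_instance
    · obtain ⟨V, hV, -⟩ := exists_affine_le (x := t) (W := ⊤) trivial
      have h1 : t ∈ Set.range V.2.fromSpec := by
        rw [V.2.range_fromSpec]
        exact hV
      obtain ⟨t', ht'⟩ := h1
      exact ⟨V, t', ht'⟩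
    · refine 𝔞.inj _ _ _ _ fun k => ?_
      have h1 := congrArg (T.left.presheaf.map (homOfLE (le_top : V.1 ≤ ⊤)).op) (h k)
      rw [𝔞.glob_res, 𝔞.glob_res] at h1
      exact h1

end AffCoord

end Groth.Agent.Sga3.H774.Coords
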