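import Groth.Agent.Sga3B.RepDescent7
import Groth.Agent.Sga3C.QuotRel

/-!
# Descent of sections along fppf covers

`IsFppfSheaf F`: sections of the presheaf `F` on `Over S` descend along surjective flat morphisms locally of finite
presentation.

* `isFppfSheaf_yoneda`, `isFppfSheaf_famF`, `isFppfSheaf_homF`: representable presheaves, families of morphisms and
  families of homomorphisms.
-/

set_option autoImplicit false
universe u

open CategoryTheory CategoryTheory.Limits MonoidalCategory CartesianMonoidalCategory MonObj GrpObj AlgebraicGeometry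
  Opposite

namespace Groth.Agent.Sga3.H774.FppfSheaf

open Groth.Agent.Sga3B.RepDescent

variable {S : Scheme.{u}}

/-- Sections descend along fppf covers. -/
def IsFppfSheaf (F : (Over S)ᵒᵖ ⥤ Type u) : Prop :=
  ∀ {X W : Over S} (f : X ⟶ W), Surjective f.left → Flat f.left → LocallyOfFinitePresentation f.left →
    ∀ x : F.obj (op X), (∀ (R : Over S) (a b : R ⟶ X), a ≫ f = b ≫ f → F.map a.op x = F.map b.op x) →
      ∃! w : F.obj (op W), F.map f.op w = x

theorem IsFppfSheaf.injective {F : (Over S)ᵒᵖ ⥤ Type u} (hF : IsFppfSheaf F) {T T' : Over S} (f : T' ⟶ T)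
    (h1 : Surjective f.left) (h2 : Flat f.left) (h3 : LocallyOfFinitePresentation f.left) :
    Function.Injective (F.map f.op) := by
  intro y z h
  obtain ⟨w, hw, hw'⟩ := hF f h1 h2 h3 (F.map f.op y) (fun R a b hab => by
    rw [← Functor.map_comp_apply, ← Functor.map_comp_apply, ← op_comp, ← op_comp, hab])
  rw [hw' y rfl, hw' z h.symm]

/-- Descent of morphisms. -/
theorem exists_desc {X W H : Over S} (f : X ⟶ W) (h1 : Surjective f.left) (h2 : Flat f.left)
    (h3 : LocallyOfFinitePresentation f.left) (x : X ⟶ H)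
    (hx : ∀ (R : Over S) (a b : R ⟶ X), a ≫ f = b ≫ f → a ≫ x = b ≫ x) : ∃ w : W ⟶ H, f ≫ w = x := by
  obtain ⟨w, hw⟩ := Groth.Agent.Sga3C.QuotRel.exists_desc f.left x.left (by
    intro T a b hab
    have hb : b ≫ X.hom = a ≫ X.hom := by
      rw [← Over.w f, ← Category.assoc, ← Category.assoc, hab]
    let R' : Over S := Over.mk (a ≫ X.hom)
    let a' : R' ⟶ X := Over.homMk a rfl
    let b' : R' ⟶ X := Over.homMk b hb
    exact congrArg (·.left) (hx R' a' b' (by ext; exact hab)))
  have : Epi f.left := Flat.epi_of_flat_of_surjective _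
  refine ⟨Over.homMk w ?_, Over.OverMorphism.ext hw⟩
  rw [← cancel_epi f.left, ← Category.assoc, hw, Over.w, Over.w]

theorem epi_of_cover {X W : Over S} (f : X ⟶ W) (h1 : Surjective f.left) (h2 : Flat f.left) : Epi f := by
  have : Epi f.left := Flat.epi_of_flat_of_surjective _
  exact (Over.forget S).epi_of_epi_map this

theorem isFppfSheaf_yoneda (H : Over S) : IsFppfSheaf (yoneda.obj H) := by
  intro X W f h1 h2 h3 x hx
  obtain ⟨w, hw⟩ := exists_desc f h1 h2 h3 x hx
  refine ⟨w, hw, fun z hz => ?_⟩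
  have := epi_of_cover f h1 h2
  exact (cancel_epi f).1 ((hz : f ≫ z = x).trans hw.symm)

section cover

variable (H : Over S) {X W : Over S} (f : X ⟶ W)

theorem isPullback_whiskerLeft : IsPullback (H ◁ f).left (snd H X).left (snd H W).left f.left := by
  have h : IsPullback (H ◁ f) (snd H X) (snd H W) f := by
    refine ⟨⟨whiskerLeft_snd _ _⟩, ⟨PullbackCone.IsLimit.mk _
      (fun c => lift (c.fst ≫ fst H W) c.snd) (fun c => ?_) (fun c => lift_snd _ _) (fun c m h1 h2 => ?_)⟩⟩
    · rw [lift_whiskerLeft]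
      apply CartesianMonoidalCategory.hom_ext
      · rw [lift_fst]
      · rw [lift_snd, c.condition]
    · apply CartesianMonoidalCategory.hom_ext
      · rw [lift_fst, ← h1, Category.assoc, whiskerLeft_fst]
      · rw [lift_snd, ← h2]
  exact h.map (Over.forget S)

theorem surjective_whiskerLeft [Surjective f.left] : Surjective (H ◁ f).left :=
  MorphismProperty.of_isPullback (P := @Surjective) (isPullback_whiskerLeft H f).flip inferInstance

theorem flat_whiskerLeft [Flat f.left] : Flat (H ◁ f).left :=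
  MorphismProperty.of_isPullback (P := @Flat) (isPullback_whiskerLeft H f).flip inferInstance

theorem lfp_whiskerLeft [LocallyOfFinitePresentation f.left] : LocallyOfFinitePresentation (H ◁ f).left :=
  MorphismProperty.of_isPullback (P := @LocallyOfFinitePresentation) (isPullback_whiskerLeft H f).flip inferInstance

end cover

/-- Families descend. -/
theorem exists_desc_fam {H G X W : Over S} (f : X ⟶ W) (h1 : Surjective f.left) (h2 : Flat f.left)
    (h3 : LocallyOfFinitePresentation f.left) (φ : H ⊗ X ⟶ G)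
    (hφ : ∀ (R : Over S) (a b : R ⟶ X), a ≫ f = b ≫ f → (H ◁ a) ≫ φ = (H ◁ b) ≫ φ) :
    ∃ ψ : H ⊗ W ⟶ G, (H ◁ f) ≫ ψ = φ := by
  refine exists_desc (H ◁ f) (surjective_whiskerLeft H f) (flat_whiskerLeft H f) (lfp_whiskerLeft H f) φ ?_
  intro R a b hab
  have e1 : a ≫ fst H X = b ≫ fst H X := by
    have := congrArg (· ≫ fst H W) hab
    simpa only [Category.assoc, whiskerLeft_fst] using this
  have e2 : (a ≫ snd H X) ≫ f = (b ≫ snd H X) ≫ f := by
    have := congrArg (· ≫ snd H W) hab
    simpa only [Category.assoc, whiskerLeft_snd] using this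
  have e3 := hφ R _ _ e2
  have ha : a = lift (a ≫ fst H X) (𝟙 R) ≫ (H ◁ (a ≫ snd H X)) := by
    rw [lift_whiskerLeft]
    apply CartesianMonoidalCategory.hom_ext <;> simp
  have hb : b = lift (b ≫ fst H X) (𝟙 R) ≫ (H ◁ (b ≫ snd H X)) := by
    rw [lift_whiskerLeft]
    apply CartesianMonoidalCategory.hom_ext <;> simp
  rw [ha, hb, Category.assoc, Category.assoc, e3, e1]

theorem isFppfSheaf_famF (H G : Over S) : IsFppfSheaf (famF H G) := by
  intro X W f h1 h2 h3 x hx
  obtain ⟨ψ, hψ⟩ := exists_desc_fam f h1 h2 h3 (H := H) (G := G) x hx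
  refine ⟨ψ, hψ, fun z hz => ?_⟩
  have := epi_of_cover (H ◁ f) (surjective_whiskerLeft H f) (flat_whiskerLeft H f)
  exact (cancel_epi (H ◁ f)).1 ((hz : (H ◁ f) ≫ z = x).trans hψ.symm)

theorem isHomFamily_of_fppf {H G : Over S} [GrpObj H] [GrpObj G] {X W : Over S} (f : X ⟶ W)
    (h1 : Surjective f.left) (h2 : Flat f.left) (ψ : H ⊗ W ⟶ G)
    (h : AutFam.IsHomFamily H G ((H ◁ f) ≫ ψ)) : AutFam.IsHomFamily H G ψ := by
  intro R g₁ g₂ t
  -- pull back the cover to `R`
  let R' : Over S := Over.mk (pullback.fst t.left f.left ≫ R.hom)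
  let p : R' ⟶ R := Over.homMk (pullback.fst t.left f.left) rfl
  let q : R' ⟶ X := Over.homMk (pullback.snd t.left f.left) (by
    change pullback.snd t.left f.left ≫ X.hom = pullback.fst t.left f.left ≫ R.hom
    rw [← Over.w f, ← Category.assoc, ← pullback.condition, Category.assoc, Over.w t])
  have hpq : p ≫ t = q ≫ f := Over.OverMorphism.ext pullback.condition
  have hp : Epi p := by
    have : Surjective (pullback.fst t.left f.left) := inferInstance
    have : Flat (pullback.fst t.left f.left) := inferInstance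
    exact epi_of_cover p ‹_› ‹_›
  rw [← cancel_epi p]
  have h1 := h R' (p ≫ g₁) (p ≫ g₂) q
  simp only [← Category.assoc, lift_whiskerLeft] at h1
  rw [← hpq] at h1
  rw [MonObj.comp_mul, ← Category.assoc, ← Category.assoc, ← Category.assoc, comp_lift, comp_lift, comp_lift,
    MonObj.comp_mul]
  exact h1

theorem isFppfSheaf_homF (H G : Over S) [GrpObj H] [GrpObj G] : IsFppfSheaf (homF H G) := by
  intro X W f h1 h2 h3 x hx
  obtain ⟨ψ, hψ, hψ'⟩ := isFppfSheaf_famF H G f h1 h2 h3 x.1 (fun R a b hab => congrArg Subtype.val (hx R a b hab))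
  have hψ2 : (H ◁ f) ≫ ψ = x.1 := hψ
  have hP : homP H G W ψ := isHomFamily_of_fppf f h1 h2 ψ (by
    rw [hψ2]
    exact x.2)
  exact ⟨⟨ψ, hP⟩, Subtype.ext hψ, fun z hz => Subtype.ext (hψ' z.1 (congrArg Subtype.val hz))⟩

end Groth.Agent.Sga3.H774.FppfSheaf
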