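import Mathlib.RingTheory.MvPowerSeries.Inverse
import Mathlib.Algebra.MonoidAlgebra.Basic
import Mathlib.Algebra.MvPolynomial.Monad
import Mathlib.RingTheory.Spectrum.Prime.Topology

/-!
# Expansion of Laurent polynomials at the unit point

`chr r C : ℤ^r → C[[t_1, …, t_r]]ˣ`, `m ↦ ∏ (1 + t_i)^{m_i}` and the induced injective homomorphism `C[ℤ^r] → C[[t]]`.
-/

set_option autoImplicit false
universe u

open Topology

namespace Groth.Agent.Sga3.H774.JetAlg

variable (r : ℕ) (C : Type u) [CommRing C]

/-- `C[[t_1, …, t_r]]` -/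
abbrev PS : Type u := MvPowerSeries (Fin r) C

/-- `1 + t_i` as a unit of the ring of power series -/
noncomputable def un (i : Fin r) : (PS r C)ˣ :=
  IsUnit.unit (a := 1 + MvPowerSeries.X i) (by
    rw [MvPowerSeries.isUnit_iff_constantCoeff]
    simp)

@[simp] theorem un_val (i : Fin r) : ((un r C i : (PS r C)ˣ) : PS r C) = 1 + MvPowerSeries.X i := rfl

/-- the character `m ↦ ∏ (1 + t_i)^{m_i}` with values in units -/
noncomputable def chrU : Multiplicative (Fin r → ℤ) →* (PS r C)ˣ where
  toFun m := ∏ i, (un r C i) ^ (Multiplicative.toAdd m i)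
  map_one' := by simp
  map_mul' m m' := by simp [zpow_add, Finset.prod_mul_distrib]

/-- the character `m ↦ ∏ (1 + t_i)^{m_i}` -/
noncomputable def chr : Multiplicative (Fin r → ℤ) →* PS r C :=
  (Units.coeHom _).comp (chrU r C)

variable {C} {C' : Type u} [CommRing C'] (g : C →+* C')

theorem map_un (i : Fin r) : Units.map ((MvPowerSeries.map g : PS r C →+* PS r C') : PS r C →* PS r C') (un r C i) = un r C' i := by
  ext1
  simp

theorem map_chr (m : Multiplicative (Fin r → ℤ)) : MvPowerSeries.map g (chr r C m) = chr r C' m := by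
  have h : Units.map ((MvPowerSeries.map g : PS r C →+* PS r C') : PS r C →* PS r C') (chrU r C m) = chrU r C' m := by
    simp only [chrU, MonoidHom.coe_mk, OneHom.coe_mk, map_prod, map_zpow, map_un]
  exact congrArg Units.val h

theorem constantCoeff_chr (m : Multiplicative (Fin r → ℤ)) : MvPowerSeries.constantCoeff (chr r C m) = 1 := by
  have h : Units.map ((MvPowerSeries.constantCoeff : PS r C →+* C) : PS r C →* C) (chrU r C m) = 1 := by
    have h1 : ∀ i, Units.map ((MvPowerSeries.constantCoeff : PS r C →+* C) : PS r C →* C) (un r C i) = 1 := fun i => by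
      ext1
      simp
    simp only [chrU, MonoidHom.coe_mk, OneHom.coe_mk, map_prod, map_zpow, h1, one_zpow, Finset.prod_const_one]
  exact congrArg Units.val h

variable (C)

/-- expansion at the unit point -/
noncomputable def expand : MonoidAlgebra C (Multiplicative (Fin r → ℤ)) →ₐ[C] PS r C :=
  MonoidAlgebra.lift C (PS r C) _ (chr r C)

/-- the inclusion of the polynomials -/
noncomputable def pol : MvPolynomial (Fin r) C →ₐ[C] MonoidAlgebra C (Multiplicative (Fin r → ℤ)) :=
  MvPolynomial.aeval fun i => MonoidAlgebra.single (Multiplicative.ofAdd (Pi.single i 1)) 1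

theorem pol_monomial (e : Fin r →₀ ℕ) (c : C) :
    pol r C (MvPolynomial.monomial e c) = MonoidAlgebra.single (Multiplicative.ofAdd (fun i => (e i : ℤ))) c := by
  rw [pol, MvPolynomial.aeval_monomial, Finsupp.prod_fintype _ _ (by simp)]
  simp only [MonoidAlgebra.single_pow, one_pow]
  have h : ∏ i : Fin r, (MonoidAlgebra.single (Multiplicative.ofAdd (Pi.single i (1 : ℤ)) ^ e i) (1 : C) :
      MonoidAlgebra C (Multiplicative (Fin r → ℤ))) =
      MonoidAlgebra.single (∏ i : Fin r, Multiplicative.ofAdd (Pi.single i (1 : ℤ)) ^ e i) 1 :=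
    (map_prod (MonoidAlgebra.of C (Multiplicative (Fin r → ℤ))) _ _).symm
  rw [h]
  have h2 : (∏ i : Fin r, Multiplicative.ofAdd (Pi.single i (1 : ℤ)) ^ e i : Multiplicative (Fin r → ℤ)) =
      Multiplicative.ofAdd (fun i => (e i : ℤ)) := by
    rw [← Multiplicative.toAdd.injective.eq_iff, toAdd_prod]
    simp only [toAdd_pow, toAdd_ofAdd]
    funext j
    simp [Finset.sum_apply, Pi.single_apply]
  rw [h2]
  have h3 : (algebraMap C (MonoidAlgebra C (Multiplicative (Fin r → ℤ)))) c = MonoidAlgebra.single 1 c := rfl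
  rw [h3, MonoidAlgebra.single_mul_single, one_mul, mul_one]

theorem isUnit_pol_monomial (e : Fin r →₀ ℕ) : IsUnit (pol r C (MvPolynomial.monomial e 1)) := by
  rw [pol_monomial]
  exact (Group.isUnit _).map (MonoidAlgebra.of C (Multiplicative (Fin r → ℤ)))

theorem exists_pol (f : MonoidAlgebra C (Multiplicative (Fin r → ℤ))) :
    ∃ (e : Fin r →₀ ℕ) (p : MvPolynomial (Fin r) C), f * pol r C (MvPolynomial.monomial e 1) = pol r C p := by
  induction f using MonoidAlgebra.induction_linear with
  | zero => exact ⟨0, 0, by simp⟩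
  | add f g hf hg =>
    obtain ⟨e, p, h⟩ := hf
    obtain ⟨e', p', h'⟩ := hg
    refine ⟨e + e', p * MvPolynomial.monomial e' 1 + p' * MvPolynomial.monomial e 1, ?_⟩
    have h1 : (MvPolynomial.monomial (e + e') (1 : C)) = MvPolynomial.monomial e 1 * MvPolynomial.monomial e' 1 := by
      rw [MvPolynomial.monomial_mul, mul_one]
    rw [h1, map_mul, map_add, map_mul, map_mul, ← h, ← h']
    ring
  | single m c =>
    refine ⟨Finsupp.equivFunOnFinite.symm fun i => (-(Multiplicative.toAdd m i)).toNat,
      MvPolynomial.monomial (Finsupp.equivFunOnFinite.symm fun i => (Multiplicative.toAdd m i).toNat) c, ?_⟩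
    rw [pol_monomial, pol_monomial, MonoidAlgebra.single_mul_single, mul_one]
    congr 1
    rw [← Multiplicative.toAdd.injective.eq_iff, toAdd_mul]
    funext i
    simp only [toAdd_ofAdd, Pi.add_apply, Finsupp.equivFunOnFinite_symm_apply_apply]
    omega

theorem expand_pol (p : MvPolynomial (Fin r) C) :
    expand r C (pol r C p) = ((MvPolynomial.aeval (fun i => 1 + MvPolynomial.X i) p : MvPolynomial (Fin r) C) : PS r C) := by
  have h : (expand r C).comp (pol r C) =
      (MvPolynomial.coeToMvPowerSeries.algHom C).comp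
        (MvPolynomial.aeval (fun i => 1 + MvPolynomial.X i) : MvPolynomial (Fin r) C →ₐ[C] MvPolynomial (Fin r) C) := by
    apply MvPolynomial.algHom_ext
    intro i
    simp only [AlgHom.comp_apply, MvPolynomial.aeval_X, pol, expand, MonoidAlgebra.lift_single, one_smul,
      MvPolynomial.coeToMvPowerSeries.algHom_apply]
    have h1 : chrU r C (Multiplicative.ofAdd (Pi.single i 1)) = un r C i := by
      simp only [chrU, MonoidHom.coe_mk, OneHom.coe_mk, toAdd_ofAdd]
      rw [Finset.prod_eq_single i]
      · simp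
      · intro j _ hj
        simp [hj]
      · simp
    refine (congrArg Units.val h1).trans ?_
    ext e
    simp
  have h2 := congr($h p)
  refine h2.trans ?_
  ext e
  simp

theorem aeval_injective :
    Function.Injective (MvPolynomial.aeval (fun i => 1 + MvPolynomial.X i) :
      MvPolynomial (Fin r) C →ₐ[C] MvPolynomial (Fin r) C) := by
  have h : (MvPolynomial.aeval (fun i => MvPolynomial.X i - 1) : MvPolynomial (Fin r) C →ₐ[C] MvPolynomial (Fin r) C).comp
      (MvPolynomial.aeval (fun i => 1 + MvPolynomial.X i)) = AlgHom.id C _ := by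
    apply MvPolynomial.algHom_ext
    intro i
    simp
  intro p q hpq
  have h1 := congr($h p)
  have h2 := congr($h q)
  rw [AlgHom.comp_apply, AlgHom.id_apply] at h1 h2
  rw [← h1, ← h2, hpq]

/-- The expansion at the unit point is injective. -/
theorem expand_injective : Function.Injective (expand r C) := by
  rw [injective_iff_map_eq_zero]
  intro f hf
  obtain ⟨e, p, h⟩ := exists_pol r C f
  have h1 : expand r C (pol r C p) = 0 := by
    rw [← h, map_mul, hf, zero_mul]
  rw [expand_pol] at h1
  have h2 : (MvPolynomial.aeval (fun i => 1 + MvPolynomial.X i) p : MvPolynomial (Fin r) C) = 0 :=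
    MvPolynomial.coe_injective (Fin r) C (h1.trans MvPolynomial.coe_zero.symm)
  have h3 : p = 0 := aeval_injective r C (h2.trans (map_zero _).symm)
  rw [h3, map_zero] at h
  exact (isUnit_pol_monomial r C e).mul_left_injective (h.trans (zero_mul _).symm)

/-- An open subset of `Spec C[[t]]` containing the closed subscheme `t = 0` is everything. -/
theorem eq_univ_of_isOpen (U : Set (PrimeSpectrum (PS r C))) (hU : IsOpen U)
    (h : Set.range (PrimeSpectrum.comap (MvPowerSeries.constantCoeff : PS r C →+* C)) ⊆ U) : U = Set.univ := by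
  rw [Set.eq_univ_iff_forall]
  intro p
  by_contra hp
  have h1 : p.asIdeal ≠ ⊤ := p.2.ne_top
  obtain ⟨m, hm, hpm⟩ := Ideal.exists_le_maximal _ h1
  let q : PrimeSpectrum (PS r C) := ⟨m, hm.isPrime⟩
  have h2 : p ⤳ q := by
    rw [← PrimeSpectrum.le_iff_specializes]
    exact hpm
  have h3 : q ∉ U := fun hq => hp (h2.mem_open hU hq)
  apply h3
  apply h
  rw [range_comap_of_surjective _ _ (fun c => ⟨MvPowerSeries.C c, by simp⟩)]
  rw [PrimeSpectrum.mem_zeroLocus]
  intro f hf
  have hf' : MvPowerSeries.constantCoeff f = 0 := hf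
  by_contra hfm
  have h4 : ∃ a : PS r C, 1 - a * f ∈ m := by
    obtain ⟨a, ha⟩ := hm.exists_inv hfm
    obtain ⟨i, hi, h⟩ := ha
    exact ⟨a, by
      have : 1 - a * f = i := by rw [← h]; ring
      rw [this]; exact hi⟩
  obtain ⟨a, ha⟩ := h4
  have h5 : IsUnit (1 - a * f) := by
    rw [MvPowerSeries.isUnit_iff_constantCoeff]
    simp [hf']
  exact hm.ne_top (Ideal.eq_top_of_isUnit_mem _ ha h5)

end Groth.Agent.Sga3.H774.JetAlg
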