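import Groth.Agent.Sga3.H774.Coords
import Groth.Agent.Sga3.H774.JetAlg
import Groth.Agent.Sga3B.TorLift893

/-!
# Jets at the unit point of families of homomorphisms from a split torus

Let `G` be a separated group locally of finite type over `S = Spec B` whose unit section has an affine open neighbourhood
`Spec D`.  A family of homomorphisms `φ : D_S(ℤ^r) ⊗ Spec C ⟶ G` has an expansion at the unit point
`Spec C[[t_1, …, t_r]] ⟶ G` which factors through `Spec D`, and is determined by it: `exists_affCoord`.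
-/

set_option autoImplicit false
universe u

open CategoryTheory CategoryTheory.Limits MonoidalCategory CartesianMonoidalCategory MonObj GrpObj AlgebraicGeometry
  Opposite

namespace Groth.Agent.Sga3.H774.Jets

open Groth.Agent.Sga3B.DSPts Groth.Agent.Sga3B.InfConj Groth.Agent.Sga3B.InfConjFam Groth.Agent.Sga3B.TorLift893
  Groth.Agent.Sga3B.RepDescent JetAlg Coords

variable {S : Scheme.{u}} (r : ℕ)

theorem lift_one_comp {H G : Over S} [GrpObj H] [GrpObj G] {T X : Over S} {φ : H ⊗ T ⟶ G}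
    (hφ : AutFam.IsHomFamily H G φ) (t : X ⟶ T) : lift 1 t ≫ φ = 1 := by
  have h := hφ _ 1 1 t
  rw [_root_.mul_one] at h
  exact mul_eq_left.mp h.symm

section ev

variable {C : Type u} [CommRing C] (x : Spec (CommRingCat.of C) ⟶ S)

/-- The expansion at the unit point of a family. -/
noncomputable def ev {G : Over S} (φ : Red.DS S (Fin r → ℤ) ⊗ Over.mk x ⟶ G) : uObj x (PS r C) ⟶ G :=
  lift (uPt x (chr r C)) (uStr x (PS r C)) ≫ φ

/-- The closed point `t = 0`. -/
noncomputable def zr : Over.mk x ⟶ uObj x (PS r C) :=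
  Over.homMk (Spec.map (CommRingCat.ofHom (MvPowerSeries.constantCoeff : PS r C →+* C))) (by
    change Spec.map _ ≫ Spec.map _ ≫ x = x
    rw [← Category.assoc, ← Spec.map_comp, ← CommRingCat.ofHom_comp]
    have : (MvPowerSeries.constantCoeff : PS r C →+* C).comp (algebraMap C (PS r C)) = RingHom.id C := by
      ext c
      rfl
    rw [this]
    exact (congrArg (· ≫ x) (Spec.map_id _)).trans (Category.id_comp x))

theorem zr_uPt : zr r x ≫ uPt x (chr r C) = 1 := by
  rw [uPt, dsEquiv_naturality, ← map_one (dsEquiv (Over.mk x) (Fin r → ℤ))]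
  congr 1
  refine MonoidHom.ext fun m => ?_
  have h := congr($(Scheme.ΓSpecIso_inv_naturality
    (CommRingCat.ofHom (MvPowerSeries.constantCoeff : PS r C →+* C))) (chr r C m)).symm
  refine h.trans ?_
  change (Scheme.ΓSpecIso (.of C)).inv.hom (MvPowerSeries.constantCoeff (chr r C m)) = 1
  rw [constantCoeff_chr, map_one]

theorem zr_ev {G : Over S} [GrpObj G] {φ : Red.DS S (Fin r → ℤ) ⊗ Over.mk x ⟶ G}
    (hφ : AutFam.IsHomFamily (Red.DS S (Fin r → ℤ)) G φ) : zr r x ≫ ev r x φ = 1 := by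
  rw [ev, ← Category.assoc, comp_lift, zr_uPt]
  exact lift_one_comp hφ _

theorem range_ev_subset {G : Over S} [GrpObj G] {φ : Red.DS S (Fin r → ℤ) ⊗ Over.mk x ⟶ G}
    (hφ : AutFam.IsHomFamily (Red.DS S (Fin r → ℤ)) G φ) {D : CommRingCat.{u}} (j : Spec D ⟶ G.left)
    [IsOpenImmersion j] (hj : Set.range η[G].left ⊆ Set.range j) : Set.range (ev r x φ).left ⊆ Set.range j := by
  have h1 : IsOpen ((ev r x φ).left ⁻¹' Set.range j) :=
    j.isOpenEmbedding.isOpen_range.preimage (ev r x φ).left.continuous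
  have h2 := eq_univ_of_isOpen r C ((ev r x φ).left ⁻¹' Set.range j) h1 (by
    rintro _ ⟨p, rfl⟩
    have e1 : (zr r x ≫ ev r x φ).left = (toUnit (Over.mk x)).left ≫ η[G].left := by
      rw [zr_ev r x hφ, ← Over.comp_left, ← Hom.one_def]
    have e2 : (ev r x φ).left ((zr r x).left p) = η[G].left ((toUnit (Over.mk x)).left p) := by
      rw [← Scheme.Hom.comp_apply, ← Scheme.Hom.comp_apply, ← e1, Over.comp_left]
    exact hj ⟨_, e2.symm⟩)
  rintro _ ⟨p, rfl⟩
  have h3 : p ∈ (ev r x φ).left ⁻¹' Set.range j := h2 ▸ Set.mem_univ _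
  exact h3

/-- The expansion as a ring homomorphism. -/
noncomputable def theta {G : Over S} [GrpObj G] {φ : Red.DS S (Fin r → ℤ) ⊗ Over.mk x ⟶ G}
    (hφ : AutFam.IsHomFamily (Red.DS S (Fin r → ℤ)) G φ) {D : CommRingCat.{u}} (j : Spec D ⟶ G.left)
    [IsOpenImmersion j] (hj : Set.range η[G].left ⊆ Set.range j) : D ⟶ CommRingCat.of (PS r C) :=
  Spec.preimage (IsOpenImmersion.lift j (ev r x φ).left (range_ev_subset r x hφ j hj))

theorem theta_spec {G : Over S} [GrpObj G] {φ : Red.DS S (Fin r → ℤ) ⊗ Over.mk x ⟶ G}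
    (hφ : AutFam.IsHomFamily (Red.DS S (Fin r → ℤ)) G φ) {D : CommRingCat.{u}} (j : Spec D ⟶ G.left)
    [IsOpenImmersion j] (hj : Set.range η[G].left ⊆ Set.range j) :
    Spec.map (theta r x hφ j hj) ≫ j = (ev r x φ).left := by
  rw [theta, Spec.map_preimage]
  exact IsOpenImmersion.lift_fac _ _ _

/-- A family is determined by its expansion. -/
theorem ext_of_ev {G : Over S} [IsSeparated G.hom] {φ φ' : Red.DS S (Fin r → ℤ) ⊗ Over.mk x ⟶ G}
    (h : ev r x φ = ev r x φ') : φ = φ' := by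
  let E := MonoidAlgebra C (Multiplicative (Fin r → ℤ))
  let u₀ : uObj x E ⟶ Red.DS S (Fin r → ℤ) ⊗ Over.mk x := lift (uPt x (MonoidAlgebra.of C _)) (uStr x E)
  let k : uObj x (PS r C) ⟶ uObj x E := (Over.map x).map (ptMap (expand r C))
  have hk : k ≫ u₀ = lift (uPt x (chr r C)) (uStr x (PS r C)) := by
    rw [comp_lift]
    congr 1
    · change k ≫ dsEquiv (uObj x E) _ _ = dsEquiv (uObj x (PS r C)) _ _
      rw [dsEquiv_naturality]
      congr 1
      refine MonoidHom.ext fun m => ?_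
      refine (gPt_naturality (expand r C) (MonoidAlgebra.single m 1)).trans ?_
      change gPt C (PS r C) _ = gPt C (PS r C) _
      congr 1
      rw [expand, MonoidAlgebra.lift_single, one_smul]
    · exact (st_comp x (ptMap (expand r C))).symm
  have h1 : (k ≫ u₀ ≫ φ).left = (k ≫ u₀ ≫ φ').left := by
    rw [reassoc_of% hk, reassoc_of% hk]
    exact congrArg (·.left) h
  have h2 : u₀ ≫ φ = u₀ ≫ φ' := by
    apply Over.OverMorphism.ext
    refine ext_of_ker_eq_bot G.hom (by rw [Over.w, Over.w]) k.left ?_ (by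
      rw [← Over.comp_left, ← Over.comp_left, h1])
    exact ker_specMap (expand r C).toRingHom (expand_injective r C)
  obtain ⟨s, hs1, hs2⟩ := exists_eq_comp_uPt x (fst (Red.DS S (Fin r → ℤ)) (Over.mk x)) (snd _ _)
  have hs : s ≫ u₀ = 𝟙 _ := by
    rw [comp_lift, hs1, hs2]
    exact lift_fst_snd
  rw [← Category.id_comp φ, ← Category.id_comp φ', ← hs, Category.assoc, Category.assoc, h2]

end ev

section nat

variable {C C' : Type u} [CommRing C] [CommRing C'] (g : C →+* C') (x : Spec (CommRingCat.of C) ⟶ S)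
  (x' : Spec (CommRingCat.of C') ⟶ S) (h : Spec.map (CommRingCat.ofHom g) ≫ x = x')

theorem map_comp_algebraMap : (MvPowerSeries.map g : PS r C →+* PS r C').comp (algebraMap C (PS r C)) =
    (algebraMap C' (PS r C')).comp g := by
  ext1 c
  change MvPowerSeries.map g (MvPowerSeries.C c) = MvPowerSeries.C (g c)
  simp

include h in
theorem gm_w : Spec.map (CommRingCat.ofHom (MvPowerSeries.map g : PS r C →+* PS r C')) ≫
    (uObj x (PS r C)).hom = (uObj x' (PS r C')).hom := by
  change Spec.map _ ≫ Spec.map _ ≫ x = Spec.map _ ≫ x'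
  rw [← h, ← Category.assoc, ← Category.assoc, ← Spec.map_comp, ← Spec.map_comp, ← CommRingCat.ofHom_comp,
    ← CommRingCat.ofHom_comp, map_comp_algebraMap]

/-- Functoriality of the formal neighbourhood. -/
noncomputable def gm : uObj x' (PS r C') ⟶ uObj x (PS r C) :=
  Over.homMk (Spec.map (CommRingCat.ofHom (MvPowerSeries.map g : PS r C →+* PS r C'))) (gm_w r g x x' h)

theorem gm_uPt : gm r g x x' h ≫ uPt x (chr r C) = uPt x' (chr r C') := by
  rw [uPt, uPt, dsEquiv_naturality]
  congr 1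
  refine MonoidHom.ext fun m => ?_
  have h := congr($(Scheme.ΓSpecIso_inv_naturality
    (CommRingCat.ofHom (MvPowerSeries.map g : PS r C →+* PS r C'))) (chr r C m)).symm
  refine h.trans ?_
  change (Scheme.ΓSpecIso (.of (PS r C'))).inv.hom (MvPowerSeries.map g (chr r C m)) = _
  rw [map_chr]
  rfl

theorem gm_uStr : gm r g x x' h ≫ uStr x (PS r C) =
    uStr x' (PS r C') ≫ (Over.homMk (Spec.map (CommRingCat.ofHom g)) h : Over.mk x' ⟶ Over.mk x) := by
  apply Over.OverMorphism.ext
  change Spec.map (CommRingCat.ofHom (MvPowerSeries.map g : PS r C →+* PS r C')) ≫ Spec.map (CommRingCat.ofHom (algebraMap C (PS r C))) = Spec.map (CommRingCat.ofHom (algebraMap C' (PS r C'))) ≫ Spec.map (CommRingCat.ofHom g)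
  rw [← Spec.map_comp, ← Spec.map_comp, ← CommRingCat.ofHom_comp, ← CommRingCat.ofHom_comp, map_comp_algebraMap]

theorem ev_nat {G : Over S} (φ : Red.DS S (Fin r → ℤ) ⊗ Over.mk x ⟶ G) :
    ev r x' ((Red.DS S (Fin r → ℤ) ◁ (Over.homMk (Spec.map (CommRingCat.ofHom g)) h : Over.mk x' ⟶ Over.mk x)) ≫ φ) =
      gm r g x x' h ≫ ev r x φ := by
  rw [ev, ev, ← Category.assoc, lift_whiskerLeft, ← Category.assoc, comp_lift, gm_uPt, gm_uStr]

theorem theta_nat {G : Over S} [GrpObj G] {φ : Red.DS S (Fin r → ℤ) ⊗ Over.mk x ⟶ G}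
    (hφ : AutFam.IsHomFamily (Red.DS S (Fin r → ℤ)) G φ)
    {φ' : Red.DS S (Fin r → ℤ) ⊗ Over.mk x' ⟶ G}
    (hφ' : AutFam.IsHomFamily (Red.DS S (Fin r → ℤ)) G φ')
    (e : φ' = (Red.DS S (Fin r → ℤ) ◁ (Over.homMk (Spec.map (CommRingCat.ofHom g)) h : Over.mk x' ⟶ Over.mk x)) ≫ φ)
    {D : CommRingCat.{u}} (j : Spec D ⟶ G.left)
    [IsOpenImmersion j] (hj : Set.range η[G].left ⊆ Set.range j) :
    theta r x' hφ' j hj = theta r x hφ j hj ≫ CommRingCat.ofHom (MvPowerSeries.map g : PS r C →+* PS r C') := by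
  apply Spec.map_injective
  rw [← cancel_mono j, theta_spec, Spec.map_comp, Category.assoc, theta_spec, e, ev_nat r g x x' h, Over.comp_left]
  rfl

end nat

/-- **Coordinates on families of homomorphisms from a split torus.** -/
theorem exists_affCoord {B : CommRingCat.{u}} (G : Over (Spec B)) [GrpObj G] [LocallyOfFiniteType G.hom]
    [IsSeparated G.hom] (hU : HasAffineUnitNhd G) :
    ∃ κ : Type u, Nonempty (AffCoord (homF (Red.DS (Spec B) (Fin r → ℤ)) G) κ) := by
  obtain ⟨D, j, hj, hj'⟩ := hU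
  obtain ⟨β, hβ⟩ : ∃ β : B ⟶ D, Spec.map β = j ≫ G.hom := ⟨Spec.preimage (j ≫ G.hom), Spec.map_preimage _⟩
  have h1 : β.hom.FiniteType := by
    have h2 : LocallyOfFiniteType (Spec.map β) := by rw [hβ]; infer_instance
    exact (HasRingHomProperty.Spec_iff (P := @LocallyOfFiniteType)).1 h2
  let _ : Algebra B D := β.hom.toAlgebra
  have h3 : Algebra.FiniteType B D := h1
  obtain ⟨s, hs⟩ := h3.out
  let c : ∀ (C : CommRingCat.{u}) (x : Spec C ⟶ Spec B), (homF (Red.DS (Spec B) (Fin r → ℤ)) G).obj (op (Over.mk x)) →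
      s × (Fin r →₀ ℕ) → C := fun C x φ k => MvPowerSeries.coeff k.2 (theta (S := Spec B) r (C := C) x φ.2 j hj' k.1)
  refine ⟨s × (Fin r →₀ ℕ), ⟨{ c := c, nat := ?_, inj := ?_ }⟩⟩
  · intro C C' g x x' h φ k
    have e := theta_nat (S := Spec B) r (C := C) (C' := C') g.hom x x' h φ.2
      ((homF (Red.DS (Spec B) (Fin r → ℤ)) G).map (Over.homMk (Spec.map g) h : Over.mk x' ⟶ Over.mk x).op φ).2
      rfl j hj'
    change MvPowerSeries.coeff k.2 (theta (S := Spec B) r (C := C') x' _ j hj' k.1) = _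
    rw [e]
    rfl
  · intro C x φ φ' hk
    apply Subtype.ext
    apply ext_of_ev (S := Spec B) r (C := C) x
    apply Over.OverMorphism.ext
    rw [← theta_spec (S := Spec B) r (C := C) x φ.2 j hj', ← theta_spec (S := Spec B) r (C := C) x φ'.2 j hj']
    congr 2
    have hB : ∀ (ψ : (homF (Red.DS (Spec B) (Fin r → ℤ)) G).obj (op (Over.mk x))),
        β ≫ theta (S := Spec B) r (C := C) x ψ.2 j hj' = Spec.preimage (uObj (C := C) x (PS r C)).hom := by
      intro ψ
      apply Spec.map_injective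
      rw [Spec.map_comp, hβ, Spec.map_preimage, ← Category.assoc, theta_spec]
      exact Over.w _
    ext1
    refine RingHom.ext fun d => ?_
    have hd : d ∈ Algebra.adjoin B (s : Set D) := hs ▸ Algebra.mem_top
    induction hd using Algebra.adjoin_induction with
    | mem d hd =>
      refine MvPowerSeries.ext fun e => ?_
      exact hk (⟨d, hd⟩, e)
    | algebraMap b =>
      have e1 := congr($(hB φ) b)
      have e2 := congr($(hB φ') b)
      exact e1.trans e2.symm
    | add a b _ _ ha hb => rw [map_add, map_add, ha, hb]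
    | mul a b _ _ ha hb => rw [map_mul, map_mul, ha, hb]

end Groth.Agent.Sga3.H774.Jets
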