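import Groth.Agent.Sga3.H774.FppfSheaf
import Groth.Agent.Sga3B.RepDescent4
import Groth.Agent.GrpQ.H773.HasFact
import Groth.Agent.Flat2D.LfpComp
import Mathlib.AlgebraicGeometry.AffineSpace

/-!
# Representability from flat charts and coordinates

* `Coord F κ`: a natural injection of the presheaf `F` on `Over S` into `κ`-families of functions.
* `IsChart F X x`: the morphism `X ⟶ F` attached to `x : F(X)` is representable, flat and locally of finite presentation.
* `exists_open`: a chart such that finitely many coordinates suffice to test the equality of two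
  pullbacks of `x` is a fppf cover of an open subfunctor of `F` (the existence half of S4092 is taken as a hypothesis).
-/

set_option autoImplicit false
universe u

open CategoryTheory CategoryTheory.Limits MonoidalCategory CartesianMonoidalCategory AlgebraicGeometry
  Opposite

namespace Groth.Agent.Sga3.H774.OpenRep

open Groth.Agent.Sga3B.RepDescent Groth.Agent.Sga3.H774.FppfSheaf Groth.Agent.GrpQ.H773.HasFact

variable {S : Scheme.{u}}

/-- A natural injection of the sections of `F` into families of functions. -/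
structure Coord (F : (Over S)ᵒᵖ ⥤ Type u) (κ : Type u) where
  /-- the coordinates -/
  c : ∀ T : Over S, F.obj (op T) → κ → Γ(T.left, ⊤)
  nat : ∀ {T T' : Over S} (f : T' ⟶ T) (y : F.obj (op T)) (k : κ),
    c T' (F.map f.op y) k = f.left.appTop (c T y k)
  inj : ∀ (T : Over S) (y y' : F.obj (op T)), (∀ k, c T y k = c T y' k) → y = y'

/-- The morphism `X ⟶ F` attached to `x` is representable, flat and locally of finite presentation. -/
def IsChart (F : (Over S)ᵒᵖ ⥤ Type u) (X : Over S) (x : F.obj (op X)) : Prop :=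
  ∀ (Y : Over S) (y : F.obj (op Y)), ∃ (Z : Over S) (a : Z ⟶ X) (b : Z ⟶ Y), F.map a.op x = F.map b.op y ∧
    Flat b.left ∧ LocallyOfFinitePresentation b.left ∧
    ∀ (R : Over S) (c : R ⟶ X) (d : R ⟶ Y), F.map c.op x = F.map d.op y → ∃! e : R ⟶ Z, e ≫ a = c ∧ e ≫ b = d

variable {F : (Over S)ᵒᵖ ⥤ Type u} {κ : Type u}

/-- Finitely many coordinates suffice. -/
theorem exists_finite (𝔠 : Coord F κ) (X Y : Over S) (x : F.obj (op X)) (y : F.obj (op Y))
    [IsNoetherianRing Γ((X ⊗ Y).left, ⊤)] :
    ∃ K : Finset κ, ∀ (R : Over S) (a : R ⟶ X) (b : R ⟶ Y),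
      (∀ k ∈ K, a.left.appTop (𝔠.c X x k) = b.left.appTop (𝔠.c Y y k)) → F.map a.op x = F.map b.op y := by
  classical
  let s : κ → Γ((X ⊗ Y).left, ⊤) := fun k => (fst X Y).left.appTop (𝔠.c X x k) - (snd X Y).left.appTop (𝔠.c Y y k)
  have h1 : (Submodule.span Γ((X ⊗ Y).left, ⊤) (Set.range s)).FG := IsNoetherian.noetherian _
  rw [Submodule.fg_span_iff_fg_span_finset_subset] at h1
  obtain ⟨t, ht, hts⟩ := h1
  choose g hg using fun z : t => ht z.2
  refine ⟨t.attach.image g, fun R a b hab => 𝔠.inj _ _ _ fun k => ?_⟩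
  rw [𝔠.nat, 𝔠.nat]
  let m : R ⟶ X ⊗ Y := lift a b
  have hm : ∀ k, m.left.appTop (s k) = a.left.appTop (𝔠.c X x k) - b.left.appTop (𝔠.c Y y k) := by
    intro k
    have e1 : a = m ≫ fst X Y := (lift_fst a b).symm
    have e2 : b = m ≫ snd X Y := (lift_snd a b).symm
    conv_rhs => rw [e1, e2]
    simp only [s, map_sub, Over.comp_left, Scheme.Hom.comp_appTop, CommRingCat.comp_apply]
  have h2 : Ideal.span (Set.range s) ≤ RingHom.ker m.left.appTop.hom := by
    have : Ideal.span (Set.range s) = Ideal.span (t : Set Γ((X ⊗ Y).left, ⊤)) := hts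
    rw [this, Ideal.span_le]
    intro z hz
    have h3 := hab (g ⟨z, hz⟩) (Finset.mem_image_of_mem g (Finset.mem_attach _ _))
    have h4 := hm (g ⟨z, hz⟩)
    rw [hg ⟨z, hz⟩, h3, sub_self] at h4
    exact h4
  have h3 : m.left.appTop (s k) = 0 := h2 (Ideal.subset_span ⟨k, rfl⟩)
  rw [hm] at h3
  exact sub_eq_zero.1 h3

section fppf

variable {X Y T : Over S} (f : X ⟶ T) (g : Y ⟶ T)

/-- Existence of fibre products, in terms of objects over `S`. -/
theorem exists_pullback :
    ∃ (P : Over S) (p : P ⟶ X) (q : P ⟶ Y), p ≫ f = q ≫ g ∧ IsPullback p.left q.left f.left g.left := by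
  refine ⟨Over.mk (pullback.fst f.left g.left ≫ X.hom), Over.homMk (pullback.fst f.left g.left) rfl,
    Over.homMk (pullback.snd f.left g.left) ?_, Over.OverMorphism.ext pullback.condition,
    IsPullback.of_hasPullback _ _⟩
  change pullback.snd f.left g.left ≫ Y.hom = pullback.fst f.left g.left ≫ X.hom
  rw [← Over.w g, ← Over.w f, ← Category.assoc, ← pullback.condition, Category.assoc]

end fppf

section main

variable (hfact : ∀ {X Y : Scheme.{u}} (f : X ⟶ Y) [LocallyOfFinitePresentation f],
  Flat (pullback.fst f f) → HasFact f)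

include hfact in
/-- The image of a chart. -/
theorem exists_open (hF : IsFppfSheaf F) (𝔠 : Coord F κ) (X : Over S) (x : F.obj (op X))
    [LocallyOfFinitePresentation X.hom] (hX : IsChart F X x) (K : Finset κ)
    (hK : ∀ (R : Over S) (a b : R ⟶ X),
      (∀ k ∈ K, a.left.appTop (𝔠.c X x k) = b.left.appTop (𝔠.c X x k)) → F.map a.op x = F.map b.op x) :
    ∃ (W : Over S) (g : X ⟶ W) (w : F.obj (op W)), Surjective g.left ∧ Flat g.left ∧
      LocallyOfFinitePresentation g.left ∧ F.map g.op w = x ∧
      ∀ (R : Over S), Function.Injective (fun m : R ⟶ W => F.map m.op w) := by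
  let f : X.left ⟶ 𝔸(K; S) := AffineSpace.homOfVector X.hom (fun k : K => 𝔠.c X x k)
  have hfS : f ≫ 𝔸(K; S) ↘ S = X.hom := AffineSpace.homOfVector_over _ _
  have hflfp : LocallyOfFinitePresentation f := by
    have : LocallyOfFinitePresentation (f ≫ 𝔸(K; S) ↘ S) := by rw [hfS]; infer_instance
    exact Groth.Agent.Flat2D.LfpComp.lfp_of_comp f (𝔸(K; S) ↘ S)
  -- the kernel pair of `f`
  have key : ∀ {R : Over S} (a b : R ⟶ X), a.left ≫ f = b.left ≫ f ↔ F.map a.op x = F.map b.op x := by
    intro R a b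
    constructor
    · intro h
      refine hK R a b fun k hk => ?_
      have h1 := congrArg (fun z => z.appTop (AffineSpace.coord S (⟨k, hk⟩ : K))) h
      simpa only [Scheme.Hom.comp_appTop, CommRingCat.comp_apply, f, AffineSpace.homOfVector_appTop_coord] using h1
    · intro h
      apply AffineSpace.hom_ext
      · rw [Category.assoc, Category.assoc, hfS, Over.w, Over.w]
      · intro k
        simp only [Scheme.Hom.comp_appTop, CommRingCat.comp_apply, f, AffineSpace.homOfVector_appTop_coord]
        rw [← 𝔠.nat, ← 𝔠.nat, h]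
  have hflat : Flat (pullback.fst f f) := by
    obtain ⟨Z, a, b, hab, hb, -, huniv⟩ := hX X x
    -- the pullback as an object over `S`
    let P : Over S := Over.mk (pullback.fst f f ≫ X.hom)
    let p : P ⟶ X := Over.homMk (pullback.fst f f) rfl
    let q : P ⟶ X := Over.homMk (pullback.snd f f) (by
      change pullback.snd f f ≫ X.hom = pullback.fst f f ≫ X.hom
      rw [← hfS, ← pullback.condition_assoc])
    obtain ⟨e, ⟨he1, he2⟩, -⟩ := huniv P q p ((key q p).1 pullback.condition.symm)
    let e' : Z.left ⟶ pullback f f := pullback.lift b.left a.left ((key b a).2 hab.symm)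
    have h1 : e.left ≫ e' = 𝟙 _ := by
      apply pullback.hom_ext
      · rw [Category.assoc, pullback.lift_fst, ← Over.comp_left, he2, Category.id_comp]
        rfl
      · rw [Category.assoc, pullback.lift_snd, ← Over.comp_left, he1, Category.id_comp]
        rfl
    let e'' : Z ⟶ P := Over.homMk e' (by
      change e' ≫ pullback.fst f f ≫ X.hom = Z.hom
      rw [pullback.lift_fst_assoc, Over.w])
    have h2 : e'' ≫ e = 𝟙 Z := by
      refine (huniv Z a b hab).unique ⟨?_, ?_⟩ ⟨Category.id_comp _, Category.id_comp _⟩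
      · rw [Category.assoc, he1]
        apply Over.OverMorphism.ext
        exact pullback.lift_snd _ _ _
      · rw [Category.assoc, he2]
        apply Over.OverMorphism.ext
        exact pullback.lift_fst _ _ _
    have h3 : e' ≫ e.left = 𝟙 _ := congrArg (·.left) h2
    have : IsIso e.left := ⟨e', h1, h3⟩
    have h4 : pullback.fst f f = e.left ≫ b.left := by
      rw [← Over.comp_left, he2]
      rfl
    rw [h4]
    infer_instance
  obtain ⟨W, g, h, hg1, hg2, hg3, hh, hgh⟩ := hfact f hflat
  let W' : Over S := Over.mk (h ≫ 𝔸(K; S) ↘ S)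
  let g' : X ⟶ W' := Over.homMk g (by
    change g ≫ h ≫ 𝔸(K; S) ↘ S = X.hom
    rw [← Category.assoc, hgh, hfS])
  have key2 : ∀ {R : Over S} (a b : R ⟶ X), F.map a.op x = F.map b.op x ↔ a ≫ g' = b ≫ g' := by
    intro R a b
    rw [← key]
    constructor
    · intro hab
      apply Over.OverMorphism.ext
      change a.left ≫ g = b.left ≫ g
      rw [← cancel_mono h, Category.assoc, Category.assoc, hgh, hab]
    · intro hab
      have h1 : a.left ≫ g = b.left ≫ g := congrArg (·.left) hab
      rw [← hgh, reassoc_of% h1]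
  obtain ⟨w, hw, -⟩ := hF g' hg1 hg2 hg3 x (fun R a b hab => (key2 a b).2 hab)
  refine ⟨W', g', w, hg1, hg2, hg3, hw, fun R m₁ m₂ hm => ?_⟩
  have hg1' : Surjective g'.left := hg1
  have hg2' : Flat g'.left := hg2
  obtain ⟨P, p, q, hpq, hP⟩ := exists_pullback m₁ g'
  obtain ⟨P', p', q', hpq', hP'⟩ := exists_pullback (p ≫ m₂) g'
  have e1 : Epi p := epi_of_cover p
    (MorphismProperty.of_isPullback (P := @Surjective) hP.flip hg1')
    (MorphismProperty.of_isPullback (P := @Flat) hP.flip hg2')
  have e2 : Epi p' := epi_of_cover p'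
    (MorphismProperty.of_isPullback (P := @Surjective) hP'.flip hg1')
    (MorphismProperty.of_isPullback (P := @Flat) hP'.flip hg2')
  have h1 : F.map (p' ≫ q).op x = F.map q'.op x := by
    rw [← hw, ← Functor.map_comp_apply, ← Functor.map_comp_apply, ← op_comp, ← op_comp, ← hpq',
      Category.assoc, ← hpq]
    have := congrArg (F.map (p' ≫ p).op) hm
    dsimp only at this
    rw [← Functor.map_comp_apply, ← Functor.map_comp_apply, ← op_comp, ← op_comp] at this
    simpa only [Category.assoc] using this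
  rw [key2, Category.assoc, ← hpq, ← hpq'] at h1
  exact (cancel_epi p).1 ((cancel_epi p').1 h1)

/-- The image of a chart is open. -/
theorem exists_iff_of_chart (hF : IsFppfSheaf F) (X : Over S) (x : F.obj (op X)) (W : Over S) (g : X ⟶ W)
    (w : F.obj (op W)) (hg1 : Surjective g.left)
    (hgw : F.map g.op w = x) (hinj : ∀ (R : Over S), Function.Injective (fun m : R ⟶ W => F.map m.op w))
    (T : Over S) (y : F.obj (op T)) (Z : Over S) (a : Z ⟶ X) (b : Z ⟶ T) (hab : F.map a.op x = F.map b.op y)
    (hb1 : Flat b.left) (hb2 : LocallyOfFinitePresentation b.left)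
    (huniv : ∀ (R : Over S) (c : R ⟶ X) (d : R ⟶ T), F.map c.op x = F.map d.op y →
      ∃ e : R ⟶ Z, e ≫ a = c ∧ e ≫ b = d) (R : Over S) (γ : R ⟶ T) :
    (∃ m : R ⟶ W, F.map m.op w = F.map γ.op y) ↔ Set.range γ.left ⊆ Set.range b.left := by
  constructor
  · rintro ⟨m, hm⟩
    obtain ⟨P, p, q, hpq, hP⟩ := exists_pullback m g
    have e1 : Surjective p.left := MorphismProperty.of_isPullback (P := @Surjective) hP.flip hg1
    obtain ⟨e, -, he⟩ := huniv P q (p ≫ γ) (by
      rw [← hgw, ← Functor.map_comp_apply, ← op_comp, ← hpq, op_comp, Functor.map_comp_apply, hm, op_comp,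
        Functor.map_comp_apply])
    rintro _ ⟨ρ, rfl⟩
    obtain ⟨ρ', rfl⟩ := p.left.surjective ρ
    refine ⟨e.left ρ', ?_⟩
    rw [← Scheme.Hom.comp_apply, ← Scheme.Hom.comp_apply, ← Over.comp_left, ← Over.comp_left, he]
  · intro h
    obtain ⟨P, p, q, hpq, hP⟩ := exists_pullback γ b
    have e1 : Surjective p.left := by
      refine ⟨fun ρ => ?_⟩
      obtain ⟨ζ, hζ⟩ := h ⟨ρ, rfl⟩
      obtain ⟨π, hπ1, hπ2⟩ := Scheme.Pullback.exists_preimage_pullback (f := γ.left) (g := b.left) ρ ζ hζ.symm
      refine ⟨hP.isoPullback.inv π, ?_⟩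
      rw [← Scheme.Hom.comp_apply, hP.isoPullback_inv_fst, hπ1]
    have e2 : Flat p.left := MorphismProperty.of_isPullback (P := @Flat) hP.flip hb1
    have e3 : LocallyOfFinitePresentation p.left :=
      MorphismProperty.of_isPullback (P := @LocallyOfFinitePresentation) hP.flip hb2
    have h1 : F.map ((q ≫ a) ≫ g).op w = F.map p.op (F.map γ.op y) := by
      rw [op_comp, Functor.map_comp_apply, hgw, op_comp, Functor.map_comp_apply, hab, ← Functor.map_comp_apply,
        ← Functor.map_comp_apply, ← op_comp, ← op_comp, hpq]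
    generalize (q ≫ a) ≫ g = m' at h1
    obtain ⟨m, hm⟩ := exists_desc p e1 e2 e3 m' (by
      intro R' c d hcd
      apply hinj
      dsimp only
      rw [op_comp, op_comp, Functor.map_comp_apply, Functor.map_comp_apply, h1, ← Functor.map_comp_apply,
        ← Functor.map_comp_apply F p.op d.op, ← op_comp, ← op_comp, hcd])
    refine ⟨m, hF.injective p e1 e2 e3 ?_⟩
    rw [← Functor.map_comp_apply, ← op_comp, hm, h1]

include hfact in
/-- **Representability from charts.** -/
theorem exists_representableBy (hF : IsEtSheaf F) (hF' : IsFppfSheaf F) (𝔠 : Coord F κ) {ι : Type u}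
    (X : ι → Over S) (x : ∀ i, F.obj (op (X i))) (hlfp : ∀ i, LocallyOfFinitePresentation (X i).hom)
    (hnoeth : ∀ i, IsNoetherianRing Γ((X i ⊗ X i).left, ⊤)) (hX : ∀ i, IsChart F (X i) (x i))
    (hcov : ∀ (K : Type u) [Field K] (s : Spec (CommRingCat.of K) ⟶ S) (y : F.obj (op (Over.mk s))),
      ∃ (i : ι) (k : Over.mk s ⟶ X i), F.map k.op (x i) = y) :
    ∃ A : Over S, Nonempty (F.RepresentableBy A) := by
  have h1 : ∀ i, ∃ (W : Over S) (g : X i ⟶ W) (w : F.obj (op W)), Surjective g.left ∧ Flat g.left ∧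
      LocallyOfFinitePresentation g.left ∧ F.map g.op w = x i ∧
      ∀ (R : Over S), Function.Injective (fun m : R ⟶ W => F.map m.op w) := by
    intro i
    obtain ⟨K, hK⟩ := exists_finite 𝔠 (X i) (X i) (x i) (x i)
    exact exists_open hfact hF' 𝔠 (X i) (x i) (hX i) K hK
  choose W g w hg1 hg2 hg3 hgw hinj using h1
  choose Z a b hab hb1 hb2 huniv using hX
  let V : ∀ (T : Over S) (_ : F.obj (op T)) (_ : ι), T.left.Opens := fun T y i =>
    have := hb1 i T y
    have := hb2 i T y
    ⟨Set.range (b i T y).left, (b i T y).left.isOpenMap.isOpen_range⟩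
  refine exists_representableBy_of_atlas (F := F)
    { ι := ι, W := W, w := w, injective := hinj, opens := V, exists_iff := ?_, cover := ?_ } hF
  · intro T y i R γ
    exact exists_iff_of_chart hF' (X i) (x i) (W i) (g i) (w i) (hg1 i) (hgw i) (hinj i) T y
      (Z i T y) (a i T y) (b i T y) (hab i T y) (hb1 i T y) (hb2 i T y)
      (fun R c d h => (huniv i T y R c d h).exists) R γ
  · intro T y τ
    let s : Spec (T.left.residueField τ) ⟶ S := T.left.fromSpecResidueField τ ≫ T.hom
    let j : Over.mk s ⟶ T := Over.homMk (T.left.fromSpecResidueField τ) rfl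
    obtain ⟨i, k, hk⟩ := hcov (T.left.residueField τ) s (F.map j.op y)
    obtain ⟨e, ⟨-, he⟩, -⟩ := huniv i T y _ k j hk
    refine ⟨i, ?_⟩
    let τ₀ : Spec (T.left.residueField τ) := IsLocalRing.closedPoint _
    have h2 : j.left τ₀ = τ := T.left.fromSpecResidueField_apply τ τ₀
    change τ ∈ Set.range (b i T y).left
    refine ⟨e.left τ₀, ?_⟩
    rw [← Scheme.Hom.comp_apply, ← Over.comp_left, he, h2]

end main

end Groth.Agent.Sga3.H774.OpenRep
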