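import Groth.Agent.Sga3.H774.OpenRep
import Groth.Agent.S0114
import Groth.Agent.S0115
import Mathlib.AlgebraicGeometry.ZariskisMainTheorem

/-!
# Properties of a scheme representing a presheaf with flat charts and coordinates

* `chart_flat`, `chart_lfp`: the morphism `X ⟶ A` given by a chart is flat and locally of finite presentation;
* `smooth_of_charts`, `lfp_of_charts`: `A` is smooth (locally of finite presentation) over `S` if the charts are;
* `exists_isOpenImmersion_of_isCompact`: quasi-compact opens of `A` are quasi-affine (Zariski's main theorem).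
-/

set_option autoImplicit false
universe u

open CategoryTheory CategoryTheory.Limits MonoidalCategory CartesianMonoidalCategory AlgebraicGeometry
  Opposite

namespace Groth.Agent.Sga3.H774.OpenRepProps

open Groth.Agent.Sga3B.RepDescent Groth.Agent.Sga3.H774.FppfSheaf Groth.Agent.Sga3.H774.OpenRep

variable {S : Scheme.{u}} {F : (Over S)ᵒᵖ ⥤ Type u} {A : Over S} (r : F.RepresentableBy A)

section chart

include r

theorem exists_isIso_of_chart {X : Over S} {x : F.obj (op X)} (hX : IsChart F X x) :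
    ∃ (c : X ⟶ A), r.homEquiv c = x ∧ Flat c.left ∧ LocallyOfFinitePresentation c.left := by
  let c : X ⟶ A := r.homEquiv.symm x
  have hc : r.homEquiv c = x := r.homEquiv.apply_symm_apply x
  refine ⟨c, hc, ?_⟩
  obtain ⟨Z, a, b, hab, hb1, hb2, huniv⟩ := hX A (r.homEquiv (𝟙 A))
  have hF : ∀ {R : Over S} (m : R ⟶ A), F.map m.op (r.homEquiv (𝟙 A)) = r.homEquiv m := fun m => by
    rw [← r.homEquiv_comp, Category.comp_id]
  obtain ⟨e, ⟨he1, he2⟩, -⟩ := huniv X (𝟙 X) c (by
    rw [hF, hc, op_id, Functor.map_id_apply])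
  have h1 : a ≫ e = 𝟙 Z := by
    refine (huniv Z a b hab).unique ⟨?_, ?_⟩ ⟨Category.id_comp _, Category.id_comp _⟩
    · rw [Category.assoc, he1, Category.comp_id]
    · rw [Category.assoc, he2]
      apply r.homEquiv.injective
      rw [r.homEquiv_comp, hc, hab, hF]
  have h2 : IsIso e := ⟨a, he1, h1⟩
  have h3 : IsIso e.left := inferInstanceAs (IsIso ((Over.forget S).map e))
  rw [← he2, Over.comp_left]
  exact ⟨inferInstance, inferInstance⟩

end chart

/-- Properties of `A` over `S` which can be checked on charts. -/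
theorem prop_of_charts (P : MorphismProperty Scheme.{u}) [IsZariskiLocalAtSource P]
    (hP : ∀ {X Y : Scheme.{u}} (f : X ⟶ Y) (q : Y ⟶ S), Surjective f → Flat f → LocallyOfFinitePresentation f →
      P (f ≫ q) → P q) {ι : Type u} (X : ι → Over S) (x : ∀ i, F.obj (op (X i)))
    (hX : ∀ i, IsChart F (X i) (x i)) (hPX : ∀ i, P (X i).hom)
    (hcov : ∀ (K : Type u) [Field K] (s : Spec (CommRingCat.of K) ⟶ S) (y : F.obj (op (Over.mk s))),
      ∃ (i : ι) (k : Over.mk s ⟶ X i), F.map k.op (x i) = y) (r : F.RepresentableBy A) : P A.hom := by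
  choose c hc hc1 hc2 using fun i => exists_isIso_of_chart r (hX i)
  let V : ι → A.left.Opens := fun i => ⟨Set.range (c i).left, (c i).left.isOpenMap.isOpen_range⟩
  have hcov' : ∀ α : A.left, ∃ i, α ∈ V i := by
    intro τ
    let s : Spec (A.left.residueField τ) ⟶ S := A.left.fromSpecResidueField τ ≫ A.hom
    let j : Over.mk s ⟶ A := Over.homMk (A.left.fromSpecResidueField τ) rfl
    obtain ⟨i, k, hk⟩ := hcov (A.left.residueField τ) s (r.homEquiv j)
    have h1 : k ≫ c i = j := by
      apply r.homEquiv.injective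
      rw [r.homEquiv_comp, hc, hk]
    refine ⟨i, ?_⟩
    let τ₀ : Spec (A.left.residueField τ) := IsLocalRing.closedPoint _
    have h2 : j.left τ₀ = τ := A.left.fromSpecResidueField_apply τ τ₀
    change τ ∈ Set.range (c i).left
    refine ⟨k.left τ₀, ?_⟩
    rw [← Scheme.Hom.comp_apply, ← Over.comp_left, h1, h2]
  rw [IsZariskiLocalAtSource.iff_of_iSup_eq_top (P := P) V (by
    rw [eq_top_iff]
    intro α _
    obtain ⟨i, hi⟩ := hcov' α
    exact TopologicalSpace.Opens.mem_iSup.2 ⟨i, hi⟩)]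
  intro i
  let d : (X i).left ⟶ (V i : Scheme.{u}) := IsOpenImmersion.lift (V i).ι (c i).left (by
    rw [Scheme.Opens.range_ι]
    exact subset_rfl)
  have hd : d ≫ (V i).ι = (c i).left := IsOpenImmersion.lift_fac _ _ _
  have h1 : Flat d := by
    have : Flat (d ≫ (V i).ι) := by rw [hd]; exact hc1 i
    exact MorphismProperty.of_postcomp (W := @Flat) (W' := @IsOpenImmersion) _ (V i).ι inferInstance this
  have h2 : LocallyOfFinitePresentation d := by
    have : LocallyOfFinitePresentation (d ≫ (V i).ι) := by rw [hd]; exact hc2 i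
    exact MorphismProperty.of_postcomp (W := @LocallyOfFinitePresentation) (W' := @IsOpenImmersion) _ (V i).ι
      inferInstance this
  have h3 : Surjective d := by
    refine ⟨fun v => ?_⟩
    obtain ⟨ξ, hξ⟩ := v.2
    refine ⟨ξ, ?_⟩
    apply (V i).ι.isOpenEmbedding.injective
    rw [← Scheme.Hom.comp_apply, hd, hξ]
    rfl
  refine hP d ((V i).ι ≫ A.hom) h3 h1 h2 ?_
  rw [reassoc_of% hd, Over.w]
  exact hPX i

theorem smooth_of_charts {ι : Type u} (X : ι → Over S) (x : ∀ i, F.obj (op (X i)))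
    (hX : ∀ i, IsChart F (X i) (x i)) (hPX : ∀ i, Smooth (X i).hom)
    (hcov : ∀ (K : Type u) [Field K] (s : Spec (CommRingCat.of K) ⟶ S) (y : F.obj (op (Over.mk s))),
      ∃ (i : ι) (k : Over.mk s ⟶ X i), F.map k.op (x i) = y) (r : F.RepresentableBy A) : Smooth A.hom :=
  prop_of_charts @Smooth (fun f q _ _ _ _ => Groth.Agent.S0115.result f q) X x hX hPX hcov r

theorem lfp_of_charts {ι : Type u} (X : ι → Over S) (x : ∀ i, F.obj (op (X i)))
    (hX : ∀ i, IsChart F (X i) (x i)) (hPX : ∀ i, LocallyOfFinitePresentation (X i).hom)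
    (hcov : ∀ (K : Type u) [Field K] (s : Spec (CommRingCat.of K) ⟶ S) (y : F.obj (op (Over.mk s))),
      ∃ (i : ι) (k : Over.mk s ⟶ X i), F.map k.op (x i) = y) (r : F.RepresentableBy A) :
    LocallyOfFinitePresentation A.hom :=
  prop_of_charts @LocallyOfFinitePresentation (fun f q _ _ _ _ => Groth.Agent.S0114.result f q) X x hX hPX hcov r

section qaff

variable {κ : Type u} (𝔠 : Coord F κ)

/-- Sections over a covered object are determined by their restrictions. -/
theorem ext_of_isEtSheaf (hF : IsEtSheaf F) {T : Over S} {ι : Type u} (T' : ι → Over S) (f : ∀ i, T' i ⟶ T)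
    (hf : ∀ i, Etale (f i).left) (hcov : ∀ t : T.left, ∃ (i : ι) (t' : (T' i).left), (f i).left t' = t)
    (y z : F.obj (op T)) (h : ∀ i, F.map (f i).op y = F.map (f i).op z) : y = z := by
  obtain ⟨w, -, hw⟩ := hF T' f hf hcov (fun i => F.map (f i).op y) (fun i j R a b hab => by
    rw [← Functor.map_comp_apply, ← Functor.map_comp_apply, ← op_comp, ← op_comp, hab])
  rw [hw y fun i => rfl, hw z fun i => (h i).symm]

instance isNoetherianRing_prod [IsAffine S] [IsLocallyNoetherian S] (X Y : Over S) [IsAffine X.left] [IsAffine Y.left]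
    [LocallyOfFiniteType X.hom] [LocallyOfFiniteType Y.hom] : IsNoetherianRing Γ((X ⊗ Y).left, ⊤) := by
  have h1 : IsAffine (X ⊗ Y).left := inferInstanceAs (IsAffine (pullback X.hom Y.hom))
  have h2 : LocallyOfFiniteType (X ⊗ Y).hom := inferInstanceAs (LocallyOfFiniteType (pullback.fst X.hom Y.hom ≫ X.hom))
  have h3 : IsLocallyNoetherian (X ⊗ Y).left := LocallyOfFiniteType.isLocallyNoetherian (X ⊗ Y).hom
  exact IsLocallyNoetherian.component_noetherian ⟨⊤, isAffineOpen_top _⟩

/-- Finitely many coordinates suffice, quasi-compact case. -/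
theorem exists_finite_of_compact (hF : IsEtSheaf F) [IsAffine S] [IsLocallyNoetherian S] (X : Over S)
    (x : F.obj (op X)) [CompactSpace X.left] [LocallyOfFiniteType X.hom] :
    ∃ K : Finset κ, ∀ (R : Over S) (a b : R ⟶ X),
      (∀ k ∈ K, a.left.appTop (𝔠.c X x k) = b.left.appTop (𝔠.c X x k)) → F.map a.op x = F.map b.op x := by
  classical
  let 𝒰 := X.left.affineCover.finiteSubcover
  let U : 𝒰.I₀ → Over S := fun i => Over.mk (𝒰.f i ≫ X.hom)
  let j : ∀ i, U i ⟶ X := fun i => Over.homMk (𝒰.f i) rfl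
  have h1 : ∀ i, IsAffine (U i).left := fun i => inferInstanceAs (IsAffine (X.left.affineCover.X _))
  have h2 : ∀ i, LocallyOfFiniteType (U i).hom := fun i => inferInstanceAs (LocallyOfFiniteType (𝒰.f i ≫ X.hom))
  have h3 : ∀ p : 𝒰.I₀ × 𝒰.I₀, ∃ K : Finset κ, ∀ (R : Over S) (a : R ⟶ U p.1) (b : R ⟶ U p.2),
      (∀ k ∈ K, a.left.appTop (𝔠.c (U p.1) (F.map (j p.1).op x) k) =
        b.left.appTop (𝔠.c (U p.2) (F.map (j p.2).op x) k)) →
      F.map a.op (F.map (j p.1).op x) = F.map b.op (F.map (j p.2).op x) := fun p =>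
    exists_finite 𝔠 (U p.1) (U p.2) _ _
  choose K hK using h3
  refine ⟨Finset.univ.biUnion K, fun R a b hab => ?_⟩
  -- the cover of `R`
  have hex : ∀ p : ULift.{u} (𝒰.I₀ × 𝒰.I₀), ∃ (P : Over S) (f : P ⟶ R) (c : P ⟶ U p.down.1) (d : P ⟶ U p.down.2),
      f ≫ a = c ≫ j p.down.1 ∧ f ≫ b = d ≫ j p.down.2 ∧ Etale f.left ∧
      ∀ ρ : R.left, a.left ρ ∈ Set.range (j p.down.1).left → b.left ρ ∈ Set.range (j p.down.2).left →
        ρ ∈ Set.range f.left := by
    intro p
    obtain ⟨P, f, c, hfc, hP⟩ := exists_pullback a (j p.down.1)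
    obtain ⟨P', f', d, hfd, hP'⟩ := exists_pullback (f ≫ b) (j p.down.2)
    have e1 : Etale (j p.down.1).left := inferInstanceAs (Etale (𝒰.f _))
    have e2 : Etale (j p.down.2).left := inferInstanceAs (Etale (𝒰.f _))
    have e3 : Etale f.left := MorphismProperty.of_isPullback (P := @Etale) hP.flip e1
    have e4 : Etale f'.left := MorphismProperty.of_isPullback (P := @Etale) hP'.flip e2
    refine ⟨P', f' ≫ f, f' ≫ c, d, ?_, ?_, ?_, ?_⟩
    · rw [Category.assoc, Category.assoc, hfc]
    · rw [Category.assoc, hfd]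
    · rw [Over.comp_left]; infer_instance
    · rintro ρ ⟨ξ, hξ⟩ ⟨ζ, hζ⟩
      obtain ⟨π, hπ1, -⟩ := Scheme.Pullback.exists_preimage_pullback (f := a.left) (g := (j p.down.1).left) ρ ξ hξ.symm
      have hπ2 : f.left (hP.isoPullback.inv π) = ρ := by
        rw [← Scheme.Hom.comp_apply, hP.isoPullback_inv_fst, hπ1]
      obtain ⟨π', hπ1', -⟩ := Scheme.Pullback.exists_preimage_pullback (f := (f ≫ b).left)
        (g := (j p.down.2).left) (hP.isoPullback.inv π) ζ (by
          rw [Over.comp_left, Scheme.Hom.comp_apply, hπ2, hζ])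
      refine ⟨hP'.isoPullback.inv π', ?_⟩
      rw [Over.comp_left, Scheme.Hom.comp_apply, ← Scheme.Hom.comp_apply hP'.isoPullback.inv,
        hP'.isoPullback_inv_fst, hπ1', hπ2]
  choose P f c d hfc hfd hf hcov using hex
  refine ext_of_isEtSheaf hF P f hf (fun ρ => ?_) _ _ fun p => ?_
  · obtain ⟨i, ξ, hξ⟩ := 𝒰.exists_eq (a.left ρ)
    obtain ⟨i', ζ, hζ⟩ := 𝒰.exists_eq (b.left ρ)
    obtain ⟨t, ht⟩ := hcov ⟨(i, i')⟩ ρ ⟨ξ, hξ⟩ ⟨ζ, hζ⟩
    exact ⟨_, t, ht⟩
  · have e1 : F.map (f p).op (F.map a.op x) = F.map (c p).op (F.map (j p.down.1).op x) := by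
      rw [← Functor.map_comp_apply, ← Functor.map_comp_apply, ← op_comp, ← op_comp, hfc]
    have e2 : F.map (f p).op (F.map b.op x) = F.map (d p).op (F.map (j p.down.2).op x) := by
      rw [← Functor.map_comp_apply, ← Functor.map_comp_apply, ← op_comp, ← op_comp, hfd]
    rw [e1, e2]
    refine hK p.down _ _ _ fun k hk => ?_
    have e3 := congrArg (f p).left.appTop (hab k (Finset.mem_biUnion.2 ⟨p.down, Finset.mem_univ _, hk⟩))
    rw [← CommRingCat.comp_apply, ← CommRingCat.comp_apply, ← Scheme.Hom.comp_appTop, ← Scheme.Hom.comp_appTop,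
      ← Over.comp_left, ← Over.comp_left, hfc, hfd, Over.comp_left, Over.comp_left, Scheme.Hom.comp_appTop,
      Scheme.Hom.comp_appTop, CommRingCat.comp_apply, CommRingCat.comp_apply] at e3
    rw [𝔠.nat, 𝔠.nat]
    exact e3

include 𝔠 in
/-- **Quasi-compact opens are quasi-affine.** -/
theorem exists_isOpenImmersion_of_isCompact (hF : IsEtSheaf F) [IsAffine S] [IsLocallyNoetherian S]
    (r : F.RepresentableBy A) [LocallyOfFiniteType A.hom] (U : A.left.Opens) (hU : IsCompact (U : Set A.left)) :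
    ∃ (P : Scheme.{u}) (k : (U : Scheme.{u}) ⟶ P), IsAffine P ∧ IsOpenImmersion k := by
  let X : Over S := Over.mk (U.ι ≫ A.hom)
  let j : X ⟶ A := Over.homMk U.ι rfl
  let x : F.obj (op X) := r.homEquiv j
  have h1 : CompactSpace X.left := isCompact_iff_compactSpace.1 hU
  have h2 : LocallyOfFiniteType X.hom := inferInstanceAs (LocallyOfFiniteType (U.ι ≫ A.hom))
  obtain ⟨K, hK⟩ := exists_finite_of_compact 𝔠 hF X x
  let f : X.left ⟶ 𝔸(K; S) := AffineSpace.homOfVector X.hom (fun k : K => 𝔠.c X x k)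
  have hfS : f ≫ 𝔸(K; S) ↘ S = X.hom := AffineSpace.homOfVector_over _ _
  have h3 : LocallyOfFiniteType f := by
    have : LocallyOfFiniteType (f ≫ 𝔸(K; S) ↘ S) := by rw [hfS]; infer_instance
    exact locallyOfFiniteType_of_comp f (𝔸(K; S) ↘ S)
  have h4 : Mono f := by
    refine ⟨fun {R} a b hab => ?_⟩
    let R' : Over S := Over.mk (a ≫ X.hom)
    let a' : R' ⟶ X := Over.homMk a rfl
    let b' : R' ⟶ X := Over.homMk b (by
      change b ≫ X.hom = a ≫ X.hom
      rw [← hfS, reassoc_of% hab])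
    have h5 : F.map a'.op x = F.map b'.op x := hK R' a' b' fun k hk => by
      have h1 := congrArg (fun z => z.appTop (AffineSpace.coord S (⟨k, hk⟩ : K))) hab
      simp only [Scheme.Hom.comp_appTop, CommRingCat.comp_apply, f, AffineSpace.homOfVector_appTop_coord] at h1
      exact h1
    have h6 : a' ≫ j = b' ≫ j := by
      apply r.homEquiv.injective
      rw [r.homEquiv_comp, r.homEquiv_comp, h5]
    have h7 : a ≫ U.ι = b ≫ U.ι := congrArg (·.left) h6
    exact (cancel_mono U.ι).1 h7
  have h5 : QuasiCompact f := by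
    rw [quasiCompact_iff_compactSpace]
    exact h1
  refine ⟨f.normalization, f.toNormalization, ?_, inferInstance⟩
  exact isAffine_of_isAffineHom f.fromNormalization

end qaff

end Groth.Agent.Sga3.H774.OpenRepProps
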